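import Cfsg.Agent.Lib.Spor.Fi23.Cosets
import Cfsg.Prelude.Def_Sporadic

/-!
The presented Fischer group Fi23 is simple.
-/

namespace CfsgLib.Spor.Fi23

open CfsgLib.PresCert Cfsg.Spor

/-- A normal subgroup containing `b * a` is everything. -/
theorem eq_top_of_ba_mem (N : Subgroup Cfsg.Spor.Fi23) (hN : N.Normal)
    (hba : gen .b * gen .a ∈ N) : N = ⊤ := by
  haveI := hN
  let q : Cfsg.Spor.Fi23 →* Cfsg.Spor.Fi23 ⧸ N := QuotientGroup.mk' N
  let t := q (gen .a)
  have hsq : ∀ x, q (gen x) * q (gen x) = 1 := fun x => by rw [← map_mul, gen_sq, map_one]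
  have hinv : ∀ x, (q (gen x))⁻¹ = q (gen x) := fun x => inv_eq_of_mul_eq_one_left (hsq x)
  have cox : ∀ x y, (q (gen x) * q (gen y)) ^ coxLabel Fi23.edges x y = 1 := fun x y => by
    have h := pgen_cox (extra := Fi23.extra) (mem_nodes x) (mem_nodes y)
    rw [← map_mul, ← map_pow, h, map_one]
  have hb : q (gen .b) = t := by
    have h : q (gen .b) * q (gen .a) = 1 := by
      rw [← map_mul]
      exact (QuotientGroup.eq_one_iff _).2 hba
    rw [mul_eq_one_iff_eq_inv, hinv] at h
    exact h
  -- joined to one generator with image `t`, not joined to another one: the image is `t`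
  have step : ∀ x p r, coxLabel Fi23.edges x p = 3 → coxLabel Fi23.edges x r = 2 →
      q (gen p) = t → q (gen r) = t → q (gen x) = t := by
    intro x p r h3 h2 hp hr
    have e3 := cox x p
    have e2 := cox x r
    rw [h3, hp] at e3
    rw [h2, hr] at e2
    rw [pow_succ, e2, one_mul, mul_eq_one_iff_eq_inv, hinv] at e3
    exact e3
  have hc := step .c .b .a (by decide) (by decide) hb rfl
  have hd := step .d .c .a (by decide) (by decide) hc rfl
  have he := step .e .d .a (by decide) (by decide) hd rfl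
  have hh := step .h .d .a (by decide) (by decide) hd rfl
  have hi := step .i .h .a (by decide) (by decide) hh rfl
  have hf := step .f .e .a (by decide) (by decide) he rfl
  have hg := step .g .f .a (by decide) (by decide) hf rfl
  have hj := step .j .g .a (by decide) (by decide) hg rfl
  have ht2 : t * t = 1 := hsq .a
  have ht : t = 1 := by
    have h := congrArg q (gen_known _ (List.mem_append_right _ (List.mem_cons_of_mem _
      (List.mem_cons_self ..) : (List.replicate 9 [Fi23.Gen.a, .b, .c, .d, .e, .f, .h]).flatten ∈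
        extraW)))
    rw [map_one, map_list_prod, List.map_map] at h
    have hrep : ((List.replicate 9 [Fi23.Gen.a, .b, .c, .d, .e, .f, .h]).flatten.map (q ∘ gen)).prod
        = t ^ 63 := by
      simp [List.replicate_succ, hb, hc, hd, he, hf, hh, pow_succ, mul_assoc, t]
    rw [hrep, show (63 : ℕ) = 2 * 31 + 1 from rfl, pow_succ, pow_mul, pow_two, ht2, one_pow,
      one_mul] at h
    exact h
  have hall : ∀ x, gen x ∈ N := by
    intro x
    refine (QuotientGroup.eq_one_iff _).1 ?_
    cases x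
    exacts [ht, hb.trans ht, hc.trans ht, hd.trans ht, he.trans ht, hf.trans ht, hg.trans ht,
      hj.trans ht, hh.trans ht, hi.trans ht]
  rw [eq_top_iff, ← top_eq_lettersGroup (edges := Fi23.edges) (extra := Fi23.extra) allGens
    mem_allGens, lettersGroup, Subgroup.closure_le]
  rintro _ ⟨x, -, rfl⟩
  exact hall x

theorem π_injective : Function.Injective π := by
  haveI := finite
  have hlow : Nat.card Cfsg.Spor.Fi23 ≤ Nat.card π.range := by
    have h := Wide.PermData.le_card_of_hom (D := Perm.data) (⊤ : Subgroup π.range)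
      π.range.subtype (fun k hk => ?_) Perm.words_ok Perm.levels Perm.levels_ok
    · have e : (Perm.levels.map Level.len).prod = 4089470473293004800 := by decide +kernel
      rw [e, Subgroup.card_top] at h
      rw [natCard]
      exact h
    · obtain ⟨x, hx⟩ := idx_surj k hk
      exact ⟨π.rangeRestrict (gen x), trivial, fun i => hx ▸ π_gen x i⟩
  exact (Subtype.val_injective).comp ((Nat.bijective_iff_surjective_and_card π.rangeRestrict).2
    ⟨π.rangeRestrict_surjective, le_antisymm hlow
      (Nat.card_le_card_of_surjective _ π.rangeRestrict_surjective)⟩).1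

/-- the word of an element of order seventeen -/
def uWord : List Fi23.Gen := [.d, .h, .e, .b, .f, .g, .c, .a, .j]

/-- an element of order seventeen -/
noncomputable def u : Cfsg.Spor.Fi23 := (uWord.map gen).prod

/-- a further element of order seventeen -/
noncomputable def v : Cfsg.Spor.Fi23 := ((uWord ++ [Fi23.Gen.b, .a]).map gen).prod

theorem pow_seventeen (y : Cfsg.Spor.Fi23) (k : ℕ)
    (hy : ∀ i : Fin Perm.data.n, ((π y i : Fin Perm.data.n) : ℕ) = Perm.sevenData.img k i)
    (hk : ∀ i < Perm.data.n, Perm.sevenData.app (List.replicate 17 k) i = i) : y ^ 17 = 1 := by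
  refine π_injective ?_
  rw [map_pow, map_one]
  refine Equiv.ext fun i => Fin.ext ?_
  have key : ∀ (m : ℕ) (i : Fin Perm.data.n),
      (((π y ^ m) i : Fin Perm.data.n) : ℕ) = Perm.sevenData.app (List.replicate m k) i := by
    intro m
    induction m with
    | zero => intro i; rfl
    | succ m ih =>
      intro i
      rw [pow_succ, Equiv.Perm.mul_apply, ih, hy]
      rfl
  rw [key, hk i i.2]
  rfl

theorem uWord_rev : (uWord.map idx).reverse = [7, 0, 2, 6, 5, 1, 4, 8, 3] ∧
    ((uWord ++ [Fi23.Gen.b, .a]).map idx).reverse = [0, 1, 7, 0, 2, 6, 5, 1, 4, 8, 3] := by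
  decide

theorem u_pow : u ^ 17 = 1 := by
  refine pow_seventeen u 0 (fun i => ?_) fun i hi => ?_
  · rw [u, π_word, uWord_rev.1]
    exact Nat.eq_of_beq_eq_true (allBelow_spec Perm.sevU i i.2)
  · exact Nat.eq_of_beq_eq_true (allBelow_spec Perm.sevPow0 i hi)

theorem v_pow : v ^ 17 = 1 := by
  refine pow_seventeen v 1 (fun i => ?_) fun i hi => ?_
  · rw [v, π_word, uWord_rev.2]
    exact Nat.eq_of_beq_eq_true (allBelow_spec Perm.sevV i i.2)
  · exact Nat.eq_of_beq_eq_true (allBelow_spec Perm.sevPow1 i hi)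

theorem invariant_sets (S : Set (Fin Perm.data.n)) (h0 : i₀ ∈ S)
    (hH : ∀ h ∈ H, ∀ i ∈ S, π h i ∈ S) (hd : S.ncard ∣ Perm.data.n) :
    S = {i₀} ∨ S = Set.univ := by
  obtain ⟨l0, l1, b0, b1, g0, g1, -, -, -⟩ := sub_facts
  have hn : Perm.data.n = 31671 := degree
  let A : Fin Perm.data.n := ⟨Perm.sub0.base, by rw [b0, hn]; decide⟩
  let B : Fin Perm.data.n := ⟨Perm.sub1.base, by rw [b1, hn]; decide⟩
  let O : Fin Perm.data.n → Set (Fin Perm.data.n) := fun p => {i | ∃ h ∈ H, π h p = i}
  have hA : (O A).ncard = 28160 :=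
    (orbit_ncard Perm.sub0 Perm.sub0_orbit Perm.sub0_closed hGens g0 A.2).trans l0
  have hB : (O B).ncard = 3510 :=
    (orbit_ncard Perm.sub1 Perm.sub1_orbit Perm.sub1_closed hGens g1 B.2).trans l1
  have back : ∀ p i, i ∈ O p → O p = O i := by
    rintro p _ ⟨h, hh, rfl⟩
    ext j
    constructor
    · rintro ⟨k, hk, rfl⟩
      refine ⟨k * h⁻¹, H.mul_mem hk (H.inv_mem hh), ?_⟩
      rw [← Equiv.Perm.mul_apply, ← map_mul, inv_mul_cancel_right]
    · rintro ⟨k, hk, rfl⟩
      exact ⟨k * h, H.mul_mem hk hh, by rw [map_mul, Equiv.Perm.mul_apply]⟩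
  have hi0 : ∀ p : Fin Perm.data.n, i₀ ∈ O p → p = i₀ := by
    rintro p ⟨h, hh, e⟩
    have := congrArg (π h⁻¹) e
    rwa [← Equiv.Perm.mul_apply, ← map_mul, inv_mul_cancel, map_one, Equiv.Perm.one_apply,
      H_fix _ (H.inv_mem hh)] at this
  have hA0 : i₀ ∉ O A := fun h => by
    have h' : Perm.sub0.base = 0 := congrArg Fin.val (hi0 _ h)
    omega
  have hB0 : i₀ ∉ O B := fun h => by
    have h' : Perm.sub1.base = 0 := congrArg Fin.val (hi0 _ h)
    omega
  have hdis : Disjoint (O A) (O B) := by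
    rw [Set.disjoint_left]
    intro i hiA hiB
    rw [back A i hiA] at hA
    rw [back B i hiB] at hB
    omega
  have hcover : ({i₀} ∪ O A ∪ O B : Set (Fin Perm.data.n)) = Set.univ := by
    refine Set.eq_of_subset_of_ncard_le (Set.subset_univ _) ?_
    rw [Set.ncard_univ, Nat.card_fin, Set.ncard_union_eq, Set.ncard_union_eq,
      Set.ncard_singleton, hA, hB]
    · omega
    · exact Set.disjoint_singleton_left.2 hA0
    · exact Set.disjoint_union_left.2 ⟨Set.disjoint_singleton_left.2 hB0, hdis⟩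
  have hin : ∀ p i, i ∈ O p → i ∈ S → O p ⊆ S := by
    intro p i hi hiS j hj
    rw [back p i hi] at hj
    obtain ⟨h, hh, rfl⟩ := hj
    exact hH h hh i hiS
  have hmem : ∀ j, j = i₀ ∨ j ∈ O A ∨ j ∈ O B := by
    intro j
    rcases (hcover ▸ Set.mem_univ j : j ∈ ({i₀} ∪ O A ∪ O B : Set _)) with (h | h) | h
    exacts [Or.inl h, Or.inr (Or.inl h), Or.inr (Or.inr h)]
  replace hd : S.ncard ∣ 31671 := hn ▸ hd
  by_cases hSA : ∃ i ∈ O A, i ∈ S
  · obtain ⟨i, hi, hiS⟩ := hSA
    right
    refine Set.eq_of_subset_of_ncard_le (Set.subset_univ _) ?_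
    rw [Set.ncard_univ, Nat.card_fin]
    have h2 := Set.ncard_le_ncard (Set.union_subset (Set.singleton_subset_iff.2 h0) (hin A i hi hiS))
    rw [Set.ncard_union_eq (Set.disjoint_singleton_left.2 hA0), Set.ncard_singleton, hA] at h2
    obtain ⟨m, hm⟩ := hd
    rcases m with _ | _ | m
    · omega
    · omega
    · nlinarith
  left
  by_cases hSB : ∃ i ∈ O B, i ∈ S
  · obtain ⟨i, hi, hiS⟩ := hSB
    exfalso
    have h1 : S = {i₀} ∪ O B := by
      apply subset_antisymm
      · intro j hj
        rcases hmem j with h | h | h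
        · exact Or.inl h
        · exact absurd ⟨j, h, hj⟩ hSA
        · exact Or.inr h
      · exact Set.union_subset (Set.singleton_subset_iff.2 h0) (hin B i hi hiS)
    rw [h1, Set.ncard_union_eq (Set.disjoint_singleton_left.2 hB0), Set.ncard_singleton, hB] at hd
    norm_num at hd
  refine Set.eq_singleton_iff_unique_mem.2 ⟨h0, fun j hj => ?_⟩
  rcases hmem j with h | h | h
  · exact h
  · exact absurd ⟨j, h, hj⟩ hSA
  · exact absurd ⟨j, h, hj⟩ hSB

/-- every point lies in one of the three orbits of the subgroup -/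
theorem point_cases (i : Fin Perm.data.n) : i = i₀ ∨
    i ∈ {j | ∃ h ∈ H, π h ⟨Perm.sub0.base, by rw [sub_facts.2.2.1, degree]; decide⟩ = j} ∨
    i ∈ {j | ∃ h ∈ H, π h ⟨Perm.sub1.base, by rw [sub_facts.2.2.2.1, degree]; decide⟩ = j} := by
  obtain ⟨l0, l1, b0, b1, g0, g1, -, -, -⟩ := sub_facts
  have hb0 : Perm.sub0.base < Perm.data.n := by rw [b0, degree]; decide
  have hb1 : Perm.sub1.base < Perm.data.n := by rw [b1, degree]; decide
  set OA := {j | ∃ h ∈ H, π h ⟨Perm.sub0.base, hb0⟩ = j} with hOA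
  set OB := {j | ∃ h ∈ H, π h ⟨Perm.sub1.base, hb1⟩ = j} with hOB
  have hA : OA.ncard = 28160 :=
    (orbit_ncard Perm.sub0 Perm.sub0_orbit Perm.sub0_closed hGens g0 hb0).trans l0
  have hB : OB.ncard = 3510 :=
    (orbit_ncard Perm.sub1 Perm.sub1_orbit Perm.sub1_closed hGens g1 hb1).trans l1
  have hdis : Disjoint OA OB := by
    rw [Set.disjoint_left]
    rintro _ ⟨h, hh, rfl⟩ ⟨k, hk, e⟩
    have heq : OA = OB := by
      ext j
      constructor
      · rintro ⟨m, hm, rfl⟩
        refine ⟨m * h⁻¹ * k, H.mul_mem (H.mul_mem hm (H.inv_mem hh)) hk, ?_⟩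
        rw [map_mul, Equiv.Perm.mul_apply, e, ← Equiv.Perm.mul_apply, ← map_mul,
          inv_mul_cancel_right]
      · rintro ⟨m, hm, rfl⟩
        refine ⟨m * k⁻¹ * h, H.mul_mem (H.mul_mem hm (H.inv_mem hk)) hh, ?_⟩
        rw [map_mul, Equiv.Perm.mul_apply, ← e, ← Equiv.Perm.mul_apply, ← map_mul,
          inv_mul_cancel_right]
    rw [heq] at hA
    omega
  have h0 : i₀ ∉ OA ∪ OB := by
    rintro (⟨h, hh, e⟩ | ⟨h, hh, e⟩)
    all_goals
      have := congrArg (π h⁻¹) e
      rw [← Equiv.Perm.mul_apply, ← map_mul, inv_mul_cancel, map_one, Equiv.Perm.one_apply,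
        H_fix _ (H.inv_mem hh)] at this
      have h' := congrArg Fin.val this
      simp only [i₀] at h'
      omega
  have hcover : insert i₀ (OA ∪ OB) = (Set.univ : Set (Fin Perm.data.n)) := by
    refine Set.eq_of_subset_of_ncard_le (Set.subset_univ _) ?_
    rw [Set.ncard_univ, Nat.card_fin, Set.ncard_insert_of_notMem h0, Set.ncard_union_eq hdis, hA, hB,
      degree]
  exact (hcover ▸ Set.mem_univ i : i ∈ insert i₀ (OA ∪ OB))

/-- The presented group Fi23 is simple, of the order of the Fischer group. -/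
theorem isFi23 : Cfsg.IsFi23 Cfsg.Spor.Fi23 := by
  haveI := finite
  haveI : Nontrivial Cfsg.Spor.Fi23 :=
    Finite.one_lt_card_iff_nontrivial.1 (by rw [natCard]; norm_num)
  haveI : Fact (Nat.Prime 17) := ⟨by norm_num⟩
  refine ⟨isSimpleGroup_of_pElements 17 (by rw [natCard]; norm_num) (fun N hN hne => ?_) u v u_pow
    v_pow (fun N hN h => ?_), natCard⟩
  · have h := dvd_card_normal π π_injective i₀ H H_fix (index_H.trans degree.symm) transitive
      invariant_sets N hN hne
    exact dvd_trans (by rw [degree]; norm_num) h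
  · refine eq_top_of_ba_mem N hN ?_
    have e : gen .b * gen .a = u⁻¹ * (v * u⁻¹) * u⁻¹⁻¹ := by
      simp [u, v, mul_assoc]
    rw [e]
    exact hN.conj_mem _ h _

end CfsgLib.Spor.Fi23
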