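import Cfsg.Agent.Lib.PresCert.Presented
import Cfsg.Prelude.Def_Spor_Fi23

/-!
Relator words of the presented Fischer group Fi23 and letters used for its subgroups.
-/

namespace CfsgLib.Spor.Fi23

open CfsgLib.PresCert Cfsg.Spor

/-- the further relators as words -/
def extraW : List (List Fi23.Gen) :=
  [(List.replicate 10 [.d, .c, .b, .d, .e, .f, .d, .h, .i]).flatten,
   (List.replicate 9 [.a, .b, .c, .d, .e, .f, .h]).flatten]

/-- numbering of the generators -/
def idx : Fi23.Gen → ℕ
  | .a => 0 | .b => 1 | .c => 2 | .d => 3 | .e => 4 | .f => 5 | .g => 6 | .j => 7 | .h => 8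
  | .i => 9

/-- all letters -/
def allGens : List Fi23.Gen := [.a, .b, .c, .d, .e, .f, .g, .j, .h, .i]

/-- the letters other than `j` -/
def hGens : List Fi23.Gen := [.a, .b, .c, .d, .e, .f, .g, .h, .i]

theorem mem_allGens : ∀ x : Fi23.Gen, x ∈ allGens := by intro x; cases x <;> simp [allGens]

theorem mem_nodes : ∀ x : Fi23.Gen, x ∈ coxNodes Fi23.edges := by
  intro x; cases x <;> decide

theorem wordsFor : WordsFor Fi23.extra extraW := by
  intro Q _ f _
  simp [Fi23.extra, extraW, Fi23.a, Fi23.b, Fi23.c, Fi23.d, Fi23.e, Fi23.f, Fi23.h, Fi23.i,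
    pow_succ, List.replicate_succ, mul_assoc]

/-- all relator words -/
def known : List (List Fi23.Gen) := knownWords Fi23.edges extraW

/-- a generator of the presented group -/
abbrev gen : Fi23.Gen → Cfsg.Spor.Fi23 := pgen Fi23.edges Fi23.extra

theorem gen_known : ∀ w ∈ known, (w.map gen).prod = 1 := pgen_known mem_nodes wordsFor

theorem gen_sq (x : Fi23.Gen) : gen x * gen x = 1 := pgen_sq mem_nodes x

theorem step_bound {C : Cert} {js : List Cert.Just} (V : Cert.Valid C js)
    (sel sub : List Fi23.Gen) {b : ℕ} (hsub : ∀ x ∈ sub, x ∈ sel)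
    (hr : okRels C sel known .a = true) (hs : okSubs C sel (sub.map fun x => [x]) .a = true)
    (hK : CardLE (lettersGroup sub gen) b) : CardLE (lettersGroup sel gen) (C.n * b) := by
  have h := index_bound V gen_sq gen_known hr hs
  rw [wordsGroup_singletons] at h
  refine hK.step (Subgroup.closure_mono ?_) h
  rintro _ ⟨x, hx, rfl⟩
  exact ⟨x, hsub x hx, rfl⟩

end CfsgLib.Spor.Fi23
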