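import Cfsg.Agent.Lib.Spor.Fi23.OutDefs

/-!
Kernel checks for the automorphisms of the presented group Fi23.
-/

namespace CfsgLib.Spor.Fi23.Auto

open CfsgLib.PresCert

local notation "app" => Wide.PermData.app Perm.data

theorem uFix : allBelow Perm.data.n uFixAt = true := by decide +kernel

theorem cyclesOk : cycles.all cycOk = true := by decide +kernel

theorem pattern : patOk = true := by decide +kernel

theorem stepsOk : okSteps srcPts steps = true := by decide +kernel

theorem u_moves : Nat.beq (app uW 1) 1 = false := by decide +kernel

end CfsgLib.Spor.Fi23.Auto
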