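import Cfsg.Agent.Lib.Spor.Fi23.OutDefs

/-!
Kernel checks for the automorphisms of the presented group Fi23.
-/

namespace CfsgLib.Spor.Fi23.Auto

open CfsgLib.PresCert

local notation "app" => Wide.PermData.app Perm.data

theorem anchor_2 : allBin Perm.data.n (fun i => Nat.beq (Perm.data.img 1 i) (dNat anchorWord i)) 13 16384 = true := by
  decide +kernel

theorem region_2 : allBin Perm.data.n regAt 13 16384 = true := by decide +kernel

end CfsgLib.Spor.Fi23.Auto
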