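import Cfsg.Agent.Lib.Spor.Fi23.OutDefs
import Cfsg.Agent.Lib.PresCert.WidePower

/-!
Kernel checks for the automorphisms of the presented group Fi23.
-/

namespace CfsgLib.Spor.Fi23.Auto

open CfsgLib.PresCert

local notation "app" => Wide.PermData.app Perm.data

theorem uPow13_2 : allBin Perm.data.n (Perm.data.idAt (uPow 13)) 12 8192 = true := by decide +kernel

end CfsgLib.Spor.Fi23.Auto
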