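import Cfsg.Agent.Lib.PresCert.WidePower
import Mathlib.Tactic.IntervalCases
import Cfsg.Agent.Lib.Spor.Fi23.OutChk0
import Cfsg.Agent.Lib.Spor.Fi23.OutChk1
import Cfsg.Agent.Lib.Spor.Fi23.OutChk2
import Cfsg.Agent.Lib.Spor.Fi23.OutChk3
import Cfsg.Agent.Lib.Spor.Fi23.OutPow0
import Cfsg.Agent.Lib.Spor.Fi23.OutPow1
import Cfsg.Agent.Lib.Spor.Fi23.OutPow2
import Cfsg.Agent.Lib.Spor.Fi23.OutPow3
import Cfsg.Agent.Lib.Spor.Fi23.OutPow4
import Cfsg.Agent.Lib.Spor.Fi23.OutPow5
import Cfsg.Agent.Lib.Spor.Fi23.OutPow6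
import Cfsg.Agent.Lib.Spor.Fi23.OutPow7

/-!
Kernel checks for the automorphisms of the presented group Fi23.
-/

namespace CfsgLib.Spor.Fi23.Auto

open CfsgLib.PresCert

local notation "app" => Wide.PermData.app Perm.data

theorem anchor : allBelow Perm.data.n
    (fun i => Nat.beq (Perm.data.img 1 i) (dNat anchorWord i)) = true :=
  Wide.PermData.allBelow_of_chunks (m := 4) (d := 13) (by decide +kernel) (by decide +kernel)
    fun j hj => by
      interval_cases j
      exacts [anchor_0, anchor_1, anchor_2, anchor_3]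

theorem region : allBelow Perm.data.n regAt = true :=
  Wide.PermData.allBelow_of_chunks (m := 4) (d := 13) (by decide +kernel) (by decide +kernel)
    fun j hj => by
      interval_cases j
      exacts [region_0, region_1, region_2, region_3]

theorem uPow13 : allBelow Perm.data.n (Perm.data.idAt (uPow 13)) = true :=
  Wide.PermData.allBelow_of_chunks (m := 8) (d := 12) (by decide +kernel) (by decide +kernel)
    fun j hj => by
      interval_cases j
      exacts [uPow13_0, uPow13_1, uPow13_2, uPow13_3, uPow13_4, uPow13_5, uPow13_6, uPow13_7]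

end CfsgLib.Spor.Fi23.Auto
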