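import Cfsg.Agent.Lib.Spor.Fi23.PermTab0
import Cfsg.Agent.Lib.Spor.Fi23.PermTab1

/-!
Permutation representation on 31671 points (generated data).
-/

namespace CfsgLib.Spor.Fi23.Perm

open CfsgLib.PresCert

/-- the permutations -/
noncomputable def data : Wide.PermData where
  n := 31671
  g := 10
  tabs := [el0, el1, el2, el3, el4, el5, el6, el7, el8, el9, el10, el11, el12, el13, el14, el15, el16, el17, el18, el19, el20]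
  words := [[7, 6, 5, 4, 3, 2, 1, 0, 8, 3, 2, 4, 3, 5, 8, 9, 8, 3, 2, 1, 4, 3, 5, 4, 8, 3, 2, 1, 2, 3, 4, 5, 1, 2, 3, 4, 0, 1, 2, 3, 8, 9, 3, 4, 2, 3, 8, 1, 2, 3, 4, 5, 6, 7], [6, 5, 10, 5, 10, 0, 5, 10, 10, 5, 4, 3, 10, 5, 10, 5, 10, 0, 10, 4, 5, 6], [5, 11, 1, 2, 11, 9, 11, 3, 8, 9, 11, 10, 5], [12, 0, 4, 3, 10, 0, 12], [11, 3, 4, 3], [14, 4, 10, 14], [15, 8, 10], [3, 2, 1, 3, 4, 5, 3, 8, 9], [17, 17, 17, 17, 17], [0, 1, 2, 3, 4, 5, 8], [19, 19, 19]]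

end CfsgLib.Spor.Fi23.Perm
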