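import Cfsg.Agent.Lib.Spor.Fi23.OutData
import Cfsg.Agent.Lib.Spor.Fi23.OutLevel0
import Cfsg.Agent.Lib.Spor.Fi23.OutLevel1
import Cfsg.Agent.Lib.Spor.Fi23.OutLevel2
import Cfsg.Agent.Lib.Spor.Fi23.OutLevel3
import Cfsg.Agent.Lib.Spor.Fi23.OutLevel4
import Cfsg.Agent.Lib.Spor.Fi23.OutLevel5
import Cfsg.Agent.Lib.Spor.Fi23.OutLevel6
import Cfsg.Agent.Lib.Spor.Fi23.OutLevel7
import Cfsg.Agent.Lib.Spor.Fi23.OutLevel8
import Cfsg.Agent.Lib.Spor.Fi23.OutLevel9
import Cfsg.Agent.Lib.Spor.Fi23.PermData
import Cfsg.Agent.Lib.Spor.Fi23.PermZData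

/-!
Predicates checked by the kernel for the automorphisms of the presented group Fi23.
-/

namespace CfsgLib.Spor.Fi23.Auto

open CfsgLib.PresCert

local notation "app" => Wide.PermData.app Perm.data

/-- image under the conjugate of the central involution by a word -/
noncomputable def dNat (w : List ℕ) (i : ℕ) : ℕ :=
  app w (Perm.zData.img (nat_lit 2) (app w.reverse i))

/-- image under one of the eleven elements of the frame -/
noncomputable def elImg (k i : ℕ) : ℕ :=
  Bool.rec (dNat w5 i) (Perm.data.img k i) (Nat.blt k (nat_lit 10))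

/-- the point of one of the eleven elements -/
noncomputable def elPt (k : ℕ) : ℕ := genPts.getD k (nat_lit 5)

/-- an edge of the tree of a level -/
noncomputable def treeAt (L : Level) (p : ℕ) : Bool :=
  let e := L.orb.word p
  let pt := Nat.land e (nat_lit 65535)
  let par := Nat.land (Nat.shiftRight e (nat_lit 16)) (nat_lit 65535)
  let k := L.gens.getD (Nat.shiftRight e (nat_lit 32)) (nat_lit 0)
  cond (Nat.beq p 0) (Nat.beq pt L.base)
    (Nat.blt par p && Nat.blt (Nat.shiftRight e (nat_lit 32)) L.gens.length &&
      Nat.beq (elImg k (Nat.land (L.orb.word par) (nat_lit 65535))) pt)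

/-- the point has the same pattern as the base point of the level -/
noncomputable def candAt (prev : List ℕ) (L : Level) (i : ℕ) : Bool :=
  prev.all fun q => !(Nat.beq i (elPt q)) &&
    cond (Nat.beq (elImg q L.base) L.base) (Nat.beq (elImg q i) i) (!(Nat.beq (elImg q i) i))

/-- candidates lie in the tree -/
noncomputable def coverAt (prev : List ℕ) (L : Level) (i : ℕ) : Bool :=
  cond (candAt prev L i)
    (Nat.blt (L.pos.half i) L.len &&
      Nat.beq (Nat.land (L.orb.word (L.pos.half i)) (nat_lit 65535)) i) true

/-- the generators of a level fix the earlier points -/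
noncomputable def okGens (prev : List ℕ) (L : Level) : Bool :=
  L.gens.all fun k => Nat.blt k (nat_lit 11) &&
    prev.all fun q => Nat.beq (elImg k (elPt q)) (elPt q)

/-- powers of the element of order thirteen -/
def uPow (m : ℕ) : List ℕ := (List.replicate m uW).flatten

/-- the only fixed points of the element of order thirteen -/
noncomputable def uFixAt (i : ℕ) : Bool :=
  !(Nat.beq (app uW i) i) || Nat.beq i 0 || Nat.beq i fq1 || Nat.beq i fq2

/-- a point of the region is a known point of a known cycle -/
noncomputable def regAt (i : ℕ) : Bool :=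
  cond (Nat.beq (Perm.zData.img (nat_lit 2) i) i && !(Nat.beq i 0) &&
      !(Nat.beq (dNat (srcWords.getD 1 []) i) i) && !(Nat.beq (dNat (srcWords.getD 2 []) i) i))
    (let e := regPos.half i
     let c := Nat.shiftRight e (nat_lit 4)
     let m := Nat.land e (nat_lit 15)
     Nat.blt c cycles.length && Nat.blt m (nat_lit 13) &&
       Nat.beq (app (uPow m) (app (cycles.getD c ([], 0)).1 0)) i) true

/-- the pattern of the special cycle -/
def pat : List Bool := [false, false, true, true, true, false]

/-- a cycle is the special one or has another pattern -/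
noncomputable def cycOk (e : List ℕ × ℕ) : Bool :=
  (e.1.all fun k => Nat.blt k (nat_lit 10)) &&
  cond (Nat.beq e.2 0) (Nat.beq (app e.1 0) c0)
    (Nat.blt e.2 7 &&
      cond (Nat.beq (dNat e.1 (app (uPow e.2) (app e.1 0))) (app (uPow e.2) (app e.1 0)))
        (!(pat.getD (e.2 - 1) false)) (pat.getD (e.2 - 1) false))

/-- the special cycle has its pattern -/
noncomputable def patOk : Bool :=
  (List.range 6).all fun j =>
    cond (Nat.beq (dNat (srcWords.getD 3 []) (app (uPow (j + 1)) c0)) (app (uPow (j + 1)) c0))
      (pat.getD j false) (!(pat.getD j false))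

/-- closure steps from a list of known points -/
noncomputable def okSteps : List ℕ → List (ℕ × ℕ × ℕ) → Bool
  | known, [] => genPts.all fun p => known.contains p
  | known, (y, a, x) :: l =>
    Nat.blt a srcWords.length && known.contains x &&
      Nat.beq (dNat (srcWords.getD a []) x) y && okSteps (y :: known) l

/-- the points of the sources -/
noncomputable def srcPts : List ℕ := srcWords.map fun w => app w 0

end CfsgLib.Spor.Fi23.Auto
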