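import Cfsg.Agent.Lib.Spor.Fi23.OutKit
import Cfsg.Agent.Lib.Spor.Fi23.OutDefs
import Cfsg.Agent.Lib.Spor.Fi23.OutChkB
import Cfsg.Agent.Lib.Spor.Fi23.OutChkC

/-!
The generators of the presented group Fi23 as transpositions of points.
-/

namespace CfsgLib.Spor.Fi23.Auto

open CfsgLib.PresCert Cfsg.Spor

local notation "N" => Perm.data.n
local notation "app" => Wide.PermData.app Perm.data

theorem dNat_eq (w : List ℕ) (i : ℕ) : dNat w i = dImg w i := rfl

theorem app_lt {w : List ℕ} (hw : ∀ k ∈ w, k < 10) {i : ℕ} (hi : i < N) : app w i < N := by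
  have := π_wordEl hw ⟨i, hi⟩
  exact this ▸ (π (wordEl w) ⟨i, hi⟩).isLt

theorem genPts_lt : ∀ k < 11, elPt k < N := by decide +kernel

/-- the point of a generator -/
noncomputable def gpt (x : Fi23.Gen) : Fin N :=
  ⟨elPt (idx x), genPts_lt _ (by cases x <;> decide)⟩

theorem edge_step {x y : Fi23.Gen} (h : coxLabel Fi23.edges x y = 3)
    (hp : Perm.data.img (idx x) (Perm.data.img (idx y) (elPt (idx x))) = elPt (idx y))
    (hx : dq (gpt x) = gen x) : dq (gpt y) = gen y := by
  have hpt : π (gen x * gen y) (gpt x) = gpt y := by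
    refine Fin.ext ?_
    rw [map_mul, Equiv.Perm.mul_apply, π_gen, π_gen]
    exact hp
  rw [← hpt, ← conj_dq, hx, braid h]

theorem braid_pts : ∀ e ∈ ([(1, 0), (1, 2), (2, 3), (3, 4), (4, 5), (5, 6), (6, 7), (3, 8),
    (8, 9)] : List (ℕ × ℕ)),
    Perm.data.img e.1 (Perm.data.img e.2 (elPt e.1)) = elPt e.2 := by decide +kernel

theorem dq_gpt (x : Fi23.Gen) : dq (gpt x) = gen x := by
  have hb : dq (gpt .b) = gen .b := by
    refine π_injective (Equiv.ext fun i => Fin.ext ?_)
    rw [π_gen, π_dq (w := anchorWord) (by decide +kernel)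
      (show app anchorWord 0 = ((gpt .b : Fin N) : ℕ) by decide +kernel)]
    exact (Nat.eq_of_beq_eq_true (allBelow_spec anchor i i.2)).symm
  have ha := edge_step (x := .b) (y := .a) (by decide) (braid_pts (1, 0) (by simp)) hb
  have hc := edge_step (x := .b) (y := .c) (by decide) (braid_pts (1, 2) (by simp)) hb
  have hd := edge_step (x := .c) (y := .d) (by decide) (braid_pts (2, 3) (by simp)) hc
  have he := edge_step (x := .d) (y := .e) (by decide) (braid_pts (3, 4) (by simp)) hd
  have hf := edge_step (x := .e) (y := .f) (by decide) (braid_pts (4, 5) (by simp)) he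
  have hg := edge_step (x := .f) (y := .g) (by decide) (braid_pts (5, 6) (by simp)) hf
  have hj := edge_step (x := .g) (y := .j) (by decide) (braid_pts (6, 7) (by simp)) hg
  have hh := edge_step (x := .d) (y := .h) (by decide) (braid_pts (3, 8) (by simp)) hd
  have hi := edge_step (x := .h) (y := .i) (by decide) (braid_pts (8, 9) (by simp)) hh
  cases x
  exacts [ha, hb, hc, hd, he, hf, hg, hj, hh, hi]

theorem closure_gen : Subgroup.closure (Set.range (gen : Fi23.Gen → Cfsg.Spor.Fi23)) = ⊤ := by
  refine top_unique ?_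
  rw [← top_eq_lettersGroup (edges := Fi23.edges) (extra := Fi23.extra) allGens mem_allGens,
    lettersGroup, Subgroup.closure_le]
  rintro _ ⟨x, -, rfl⟩
  exact Subgroup.subset_closure ⟨x, rfl⟩

/-- an element commuting with all generators is trivial -/
theorem eq_one_of_comm {s : Cfsg.Spor.Fi23} (h : ∀ x, π s (gpt x) = gpt x) : s = 1 := by
  have hc : ∀ g, g * s = s * g := by
    intro g
    have hg : g ∈ Subgroup.closure (Set.range (gen : Fi23.Gen → Cfsg.Spor.Fi23)) :=
      closure_gen ▸ Subgroup.mem_top g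
    have hle : Subgroup.closure (Set.range (gen : Fi23.Gen → Cfsg.Spor.Fi23)) ≤
        Subgroup.centralizer {s} := by
      rw [Subgroup.closure_le]
      rintro _ ⟨x, rfl⟩
      refine Subgroup.mem_centralizer_singleton_iff.2 ?_
      have e := (comm_dq_iff s (gpt x)).2 (h x)
      rw [dq_gpt] at e
      exact e.symm
    exact Subgroup.mem_centralizer_singleton_iff.1 (hle hg)
  have h0 : π s i₀ = i₀ := fix_of_z_comm (hc z).symm
  refine π_injective ?_
  rw [map_one]
  refine Equiv.ext fun i => ?_
  obtain ⟨y, rfl⟩ := transitive i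
  rw [Equiv.Perm.one_apply, ← Equiv.Perm.mul_apply, ← map_mul, ← hc y, map_mul,
    Equiv.Perm.mul_apply, h0]

end CfsgLib.Spor.Fi23.Auto
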