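import Cfsg.Agent.Lib.Spor.Fi23.PermData
import Cfsg.Agent.Lib.Spor.Fi23.PermZData
import Cfsg.Agent.Lib.PresCert.WidePower

/-!
The product of two non-commuting transpositions has order three.
-/

namespace CfsgLib.Spor.Fi23.Perm

open CfsgLib.PresCert

theorem zTriple_0 : allBin data.n (fun i => Nat.beq (zData.img 2 (data.img 7 (zData.img 2 (data.img 7 (zData.img 2 (data.img 7 (zData.img 2 (data.img 7 (zData.img 2 (data.img 7 (zData.img 2 (data.img 7 i)))))))))))) i) 14 0 = true := by decide +kernel

theorem zTriple_1 : allBin data.n (fun i => Nat.beq (zData.img 2 (data.img 7 (zData.img 2 (data.img 7 (zData.img 2 (data.img 7 (zData.img 2 (data.img 7 (zData.img 2 (data.img 7 (zData.img 2 (data.img 7 i)))))))))))) i) 14 16384 = true := by decide +kernel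

theorem zTriple : allBelow data.n (fun i => Nat.beq (zData.img 2 (data.img 7 (zData.img 2 (data.img 7 (zData.img 2 (data.img 7 (zData.img 2 (data.img 7 (zData.img 2 (data.img 7 (zData.img 2 (data.img 7 i)))))))))))) i) = true :=
  Wide.PermData.allBelow_of_chunks (m := 2) (d := 14) (by decide +kernel) (by decide +kernel)
    fun j hj => by
      interval_cases j
      exacts [zTriple_0, zTriple_1]

theorem z_fix : Nat.beq (zData.img 2 52) 52 = true := by decide +kernel

end CfsgLib.Spor.Fi23.Perm
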