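import Cfsg.Agent.Lib.Spor.Fi23.Cover
import Cfsg.Agent.Lib.Spor.Fi23.PermZTriple

/-!
The class of 31671 transpositions of the presented Fischer group Fi23.
-/

namespace CfsgLib.Spor.Fi23

open CfsgLib.PresCert Cfsg.Spor

/-- being a non-split double cover passes along isomorphisms -/
theorem cover_of_mulEquiv {A B K : Type*} [Group A] [Group B] [Group K]
    (h : Cfsg.IsNonsplitDoubleCover A K) (φ : A ≃* B) : Cfsg.IsNonsplitDoubleCover B K := by
  obtain ⟨h1, ⟨ψ⟩, h3⟩ := h
  have hmap : (Subgroup.center A).map φ.toMonoidHom = Subgroup.center B := by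
    ext x
    rw [Subgroup.mem_map_equiv, Subgroup.mem_center_iff, Subgroup.mem_center_iff]
    constructor
    · intro h g
      simpa using congrArg φ (h (φ.symm g))
    · intro h g
      simpa using congrArg φ.symm (h (φ g))
  refine ⟨?_, ⟨(QuotientGroup.congr _ _ φ hmap).symm.trans ψ⟩, fun L hL => h3 (L.comap φ.toMonoidHom) ?_⟩
  · rw [← hmap, Subgroup.card_map_of_injective φ.injective, h1]
  · rw [← hmap] at hL
    rw [Subgroup.isComplement'_def, Subgroup.isComplement_iff_existsUnique] at hL ⊢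
    intro a
    obtain ⟨⟨⟨x, hx⟩, ⟨y, hy⟩⟩, e, uniq⟩ := hL (φ a)
    rw [SetLike.mem_coe, Subgroup.mem_map_equiv] at hx
    refine ⟨(⟨φ.symm x, hx⟩, ⟨φ.symm y, by simpa [Subgroup.mem_comap] using hy⟩), ?_, ?_⟩
    · apply φ.injective
      simpa using e
    · rintro ⟨⟨x', hx'⟩, ⟨y', hy'⟩⟩ e'
      have := uniq (⟨φ x', by simpa [Subgroup.mem_map_equiv] using hx'⟩, ⟨φ y', by simpa [Subgroup.mem_comap] using hy'⟩)
        (by simpa using congrArg φ e')
      simp only [Prod.ext_iff, Subtype.ext_iff] at this ⊢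
      exact ⟨by simpa using congrArg φ.symm this.1, by simpa using congrArg φ.symm this.2⟩

/-- the class of transpositions -/
noncomputable def transpositions : Set Cfsg.Spor.Fi23 := conjugatesOf z

theorem z_comm_H : ∀ h ∈ H, h * z = z * h := by
  intro h hh
  have e := congrArg Subtype.val (Subgroup.mem_center_iff.1 zH_central ⟨h, hh⟩)
  simpa [zH] using e

theorem centralizer_z : Subgroup.centralizer ({z} : Set Cfsg.Spor.Fi23) = H := by
  haveI := finite
  haveI : IsSimpleGroup Cfsg.Spor.Fi23 := isFi23.1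
  refine le_antisymm (fun x hx => ?_) fun h hh =>
    Subgroup.mem_centralizer_singleton_iff.2 (z_comm_H h hh)
  set C := Subgroup.centralizer ({z} : Set Cfsg.Spor.Fi23) with hC
  have hHC : H ≤ C := fun h hh => Subgroup.mem_centralizer_singleton_iff.2 (z_comm_H h hh)
  obtain ⟨φ, hφ⟩ := coset_bijection π H i₀ H_fix (index_H.trans degree.symm) transitive
  let S : Set (Fin Perm.data.n) := {i | ∃ k ∈ C, π k i₀ = i}
  have hS : S = {i₀} ∨ S = Set.univ := by
    refine invariant_sets S ⟨1, one_mem _, by simp⟩ ?_ ?_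
    · rintro h hh _ ⟨k, hk, rfl⟩
      exact ⟨h * k, C.mul_mem (hHC hh) hk, by rw [map_mul, Equiv.Perm.mul_apply]⟩
    · have e : S.ncard = H.relIndex C := by
        rw [Subgroup.relIndex, Subgroup.index_eq_card]
        symm
        refine Nat.card_congr ?_ |>.trans (Nat.card_coe_set_eq S)
        refine Equiv.ofBijective (Quotient.lift (fun k : C => (⟨π k i₀, k, k.2, rfl⟩ : S)) ?_) ⟨?_, ?_⟩
        · intro a b hab
          have hab' : (QuotientGroup.leftRel (H.subgroupOf C)) a b := hab
          rw [QuotientGroup.leftRel_apply, Subgroup.mem_subgroupOf] at hab'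
          refine Subtype.ext ?_
          show π a i₀ = π b i₀
          rw [← hφ, ← hφ]
          exact congrArg φ (QuotientGroup.eq.2 (by simpa using hab'))
        · intro a b h
          induction a using QuotientGroup.induction_on with
          | H a => ?_
          induction b using QuotientGroup.induction_on with
          | H b => ?_
          refine QuotientGroup.eq.2 ?_
          rw [Subgroup.mem_subgroupOf]
          have h' : π (a : Cfsg.Spor.Fi23) i₀ = π (b : Cfsg.Spor.Fi23) i₀ := congrArg Subtype.val h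
          rw [← hφ, ← hφ] at h'
          simpa using QuotientGroup.eq.1 (φ.injective h')
        · rintro ⟨_, k, hk, rfl⟩
          exact ⟨((⟨k, hk⟩ : C) : C ⧸ H.subgroupOf C), rfl⟩
      rw [e, show Perm.data.n = H.index from (index_H.trans degree.symm).symm]
      exact Subgroup.relIndex_dvd_index_of_le hHC
  rcases hS with hS | hS
  · have hx0 : π x i₀ = i₀ := by
      have h : π x i₀ ∈ S := ⟨x, hx, rfl⟩
      rw [hS] at h
      exact h
    have : φ (x : Cfsg.Spor.Fi23 ⧸ H) = φ ((1 : Cfsg.Spor.Fi23) : Cfsg.Spor.Fi23 ⧸ H) := by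
      rw [hφ, hφ, map_one, Equiv.Perm.one_apply, hx0]
    simpa using QuotientGroup.eq.1 (φ.injective this).symm
  · -- otherwise `z` would be central
    exfalso
    have hCtop : C = ⊤ := by
      rw [eq_top_iff]
      intro y _
      obtain ⟨k, hk, e⟩ : π y i₀ ∈ S := hS ▸ Set.mem_univ _
      rw [← hφ, ← hφ] at e
      have := QuotientGroup.eq.1 (φ.injective e)
      simpa using C.mul_mem hk (hHC this)
    have hz : z ∈ Subgroup.center Cfsg.Spor.Fi23 := by
      rw [Subgroup.mem_center_iff]
      intro g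
      have hg : g ∈ C := hCtop ▸ Subgroup.mem_top g
      exact Subgroup.mem_centralizer_singleton_iff.1 hg
    rcases IsSimpleGroup.eq_bot_or_eq_top_of_normal (Subgroup.center Cfsg.Spor.Fi23) inferInstance
      with h | h
    · exact z_ne_one (Subgroup.mem_bot.1 (h ▸ hz))
    · have hba := eq_top_of_ba_mem (Subgroup.zpowers (gen .b * gen .a))
        ⟨fun w hw g => by
          have hc : w ∈ Subgroup.center Cfsg.Spor.Fi23 := h ▸ Subgroup.mem_top w
          rwa [Subgroup.mem_center_iff.1 hc g, mul_inv_cancel_right]⟩ (Subgroup.mem_zpowers _)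
      have hord : Nat.card (Subgroup.zpowers (gen .b * gen .a)) ∣ 3 := by
        rw [Nat.card_zpowers]
        exact orderOf_dvd_of_pow_eq_one
          (pgen_cox (extra := Fi23.extra) (mem_nodes .b) (mem_nodes .a))
      rw [hba, Subgroup.card_top, natCard] at hord
      norm_num at hord

theorem card_transpositions : Nat.card transpositions = 31671 := by
  have h1 : Nat.card (MulAction.stabilizer (ConjAct Cfsg.Spor.Fi23) z) = Nat.card H := by
    rw [← centralizer_z]
    exact Nat.card_congr
      { toFun := fun g => ⟨ConjAct.ofConjAct g.1, Subgroup.mem_centralizer_singleton_iff.2 (by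
          have := g.2
          rw [MulAction.mem_stabilizer_iff, ConjAct.smul_def] at this
          exact mul_inv_eq_iff_eq_mul.1 this)⟩
        invFun := fun g => ⟨ConjAct.toConjAct g.1, by
          rw [MulAction.mem_stabilizer_iff, ConjAct.smul_def, ConjAct.ofConjAct_toConjAct,
            Subgroup.mem_centralizer_singleton_iff.1 g.2, mul_inv_cancel_right]⟩
        left_inv := fun g => by simp
        right_inv := fun g => by simp }
  haveI := finite
  have h2 := (MulAction.stabilizer (ConjAct Cfsg.Spor.Fi23) z).card_mul_index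
  rw [MulAction.index_stabilizer, h1, show Nat.card (ConjAct Cfsg.Spor.Fi23) =
    Nat.card Cfsg.Spor.Fi23 from Nat.card_congr ConjAct.ofConjAct.toEquiv, natCard, card_H] at h2
  have h3 : MulAction.orbit (ConjAct Cfsg.Spor.Fi23) z = transpositions := by
    ext y
    rw [ConjAct.mem_orbit_conjAct]
    exact isConj_comm
  rw [h3, ← Nat.card_coe_set_eq] at h2
  refine Nat.eq_of_mul_eq_mul_left (show 0 < 129123503308800 by decide) (h2.trans ?_)
  rfl

theorem perm_triple {n : ℕ} (σ τ : Equiv.Perm (Fin n)) (F G : ℕ → ℕ)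
    (hσ : ∀ i : Fin n, ((σ i : Fin n) : ℕ) = F i) (hτ : ∀ i : Fin n, ((τ i : Fin n) : ℕ) = G i)
    (h : ∀ i < n, F (G (F (G (F (G (F (G (F (G (F (G i))))))))))) = i) :
    (σ * (τ * σ * τ)) ^ 3 = 1 := by
  refine Equiv.ext fun i => Fin.ext ?_
  simp only [pow_succ, pow_zero, one_mul, Equiv.Perm.mul_apply, Equiv.Perm.one_apply, hσ, hτ]
  exact h i i.2

theorem triple : (z * (gen .j * z * gen .j)) ^ 3 = 1 := by
  refine π_injective ?_
  rw [map_one, map_pow, map_mul, map_mul, map_mul]
  exact perm_triple _ _ (fun v => Perm.zData.img 2 v) (fun v => Perm.data.img 7 v) π_z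
    (π_gen .j) fun i hi => Nat.eq_of_beq_eq_true (allBelow_spec Perm.zTriple i hi)

theorem three_transposition :
    Cfsg.IsThreeTranspositionClass transpositions := by
  haveI := finite
  haveI : IsSimpleGroup Cfsg.Spor.Fi23 := isFi23.1
  have hz : orderOf z = 2 := orderOf_eq_prime_iff.2 ⟨by rw [pow_two]; exact z_sq, z_ne_one⟩
  have hmem : z ∈ transpositions := mem_conjugatesOf_self
  refine ⟨⟨?_, ?_⟩, ⟨z, hmem, rfl⟩, ?_⟩
  · intro d hd
    obtain ⟨g, rfl⟩ := isConj_iff.1 hd
    rw [← hz]
    exact orderOf_injective (MulAut.conj g).toMonoidHom (MulAut.conj g).injective z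
  · intro d hd e he
    obtain ⟨g, rfl⟩ := isConj_iff.1 hd
    obtain ⟨g', rfl⟩ := isConj_iff.1 he
    -- reduce to the first being `z`
    suffices key : ∀ k, (z * (k * z * k⁻¹)) ^ 2 = 1 ∨ (z * (k * z * k⁻¹)) ^ 3 = 1 by
      have e1 : g * z * g⁻¹ * (g' * z * g'⁻¹) =
          MulAut.conj g (z * (g⁻¹ * g' * z * (g⁻¹ * g')⁻¹)) := by
        simp [MulAut.conj_apply, mul_assoc]
      rcases key (g⁻¹ * g') with h | h
      · exact Or.inl (by rw [e1, ← map_pow, h, map_one])
      · exact Or.inr (by rw [e1, ← map_pow, h, map_one])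
    intro k
    obtain ⟨l0, l1, b0, b1, g0, g1, -, -, -⟩ := sub_facts
    have hn : Perm.data.n = 31671 := degree
    obtain ⟨φ, hφ⟩ := coset_bijection π H i₀ H_fix (index_H.trans degree.symm) transitive
    -- conjugates of `z` by elements of one coset of `H` agree
    have same : ∀ k k' h, h ∈ H → π k i₀ = π (h * k') i₀ →
        k * z * k⁻¹ = h * (k' * z * k'⁻¹) * h⁻¹ := by
      intro k k' h _ e
      rw [← hφ, ← hφ] at e
      have hu := QuotientGroup.eq.1 (φ.injective e)
      have hc := z_comm_H _ hu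
      calc k * z * k⁻¹ = k * (z * (k⁻¹ * (h * k'))) * (h * k')⁻¹ := by simp [mul_assoc]
        _ = k * (k⁻¹ * (h * k') * z) * (h * k')⁻¹ := by rw [hc]
        _ = h * (k' * z * k'⁻¹) * h⁻¹ := by simp [mul_assoc]
    have conjH : ∀ h ∈ H, ∀ y, ∀ m : ℕ, (z * y) ^ m = 1 → (z * (h * y * h⁻¹)) ^ m = 1 := by
      intro h hh y m hm
      have e : z * (h * y * h⁻¹) = MulAut.conj h (z * y) := by
        rw [MulAut.conj_apply, ← mul_assoc h z y, z_comm_H h hh]
        simp [mul_assoc]
      rw [e, ← map_pow, hm, map_one]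
    have hB : ∀ k', ((π k' i₀ : Fin Perm.data.n) : ℕ) = 52 → (z * (k' * z * k'⁻¹)) ^ 2 = 1 := by
      intro k' hk'
      have hfix : π z (π k' i₀) = π k' i₀ := Fin.ext (by
        rw [π_z, hk']
        exact Nat.eq_of_beq_eq_true Perm.z_fix)
      have hin : k'⁻¹ * z * k' ∈ H := by
        have hh : π (k'⁻¹ * z * k') i₀ = π (1 : Cfsg.Spor.Fi23) i₀ := by
          rw [map_mul, map_mul, Equiv.Perm.mul_apply, Equiv.Perm.mul_apply, hfix, map_inv,
            Equiv.Perm.inv_eq_iff_eq]
          simp
        rw [← hφ, ← hφ] at hh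
        simpa using H.inv_mem (QuotientGroup.eq.1 (φ.injective hh))
      have hc := z_comm_H _ hin
      have hcc : z * (k' * z * k'⁻¹) = k' * z * k'⁻¹ * z := by
        calc z * (k' * z * k'⁻¹) = k' * ((k'⁻¹ * z * k') * z) * k'⁻¹ := by simp [mul_assoc]
          _ = k' * (z * (k'⁻¹ * z * k')) * k'⁻¹ := by rw [hc]
          _ = k' * z * k'⁻¹ * z := by simp [mul_assoc]
      have hsq : k' * z * k'⁻¹ * (k' * z * k'⁻¹) = 1 := by
        simp [mul_assoc, ← mul_assoc z z, z_sq]
      rw [pow_two]
      calc z * (k' * z * k'⁻¹) * (z * (k' * z * k'⁻¹))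
          = z * ((k' * z * k'⁻¹) * z) * (k' * z * k'⁻¹) := by simp [mul_assoc]
        _ = z * (z * (k' * z * k'⁻¹)) * (k' * z * k'⁻¹) := by rw [hcc]
        _ = 1 := by rw [← mul_assoc z z, z_sq, one_mul, hsq]
    let A : Fin Perm.data.n := ⟨Perm.sub0.base, by rw [b0, hn]; decide⟩
    let B : Fin Perm.data.n := ⟨Perm.sub1.base, by rw [b1, hn]; decide⟩
    let O : Fin Perm.data.n → Set (Fin Perm.data.n) := fun p => {i | ∃ h ∈ H, π h p = i}
    have hcA : (O A).ncard = 28160 :=
      (orbit_ncard Perm.sub0 Perm.sub0_orbit Perm.sub0_closed hGens g0 A.2).trans l0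
    have hcB : (O B).ncard = 3510 :=
      (orbit_ncard Perm.sub1 Perm.sub1_orbit Perm.sub1_closed hGens g1 B.2).trans l1
    have hA : π (gen .j) i₀ = A := Fin.ext (by
      rw [π_gen]
      show Perm.data.img 7 0 = Perm.sub0.base
      rw [b0]
      decide +kernel)
    have hmemO : π k i₀ = i₀ ∨ π k i₀ ∈ O A ∨ π k i₀ ∈ O B := point_cases _
    rcases hmemO with h | ⟨h, hh, e⟩ | ⟨h, hh, e⟩
    · have e1 := same k 1 1 (one_mem _) (by simp [h])
      left
      rw [e1]
      simp [z_sq]
    · right
      rw [← hA, ← Equiv.Perm.mul_apply, ← map_mul] at e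
      rw [same k (gen .j) h hh e.symm]
      refine conjH h hh _ 3 ?_
      rw [inv_eq_of_mul_eq_one_left (gen_sq .j)]
      exact triple
    · left
      obtain ⟨k', hk'⟩ := transitive B
      rw [← hk', ← Equiv.Perm.mul_apply, ← map_mul] at e
      rw [same k k' h hh e.symm]
      exact conjH h hh _ 2 (hB k' (by rw [hk']; exact b1))
  · have hn : (Subgroup.normalClosure ({z} : Set Cfsg.Spor.Fi23)) = ⊤ := by
      rcases IsSimpleGroup.eq_bot_or_eq_top_of_normal _
        (Subgroup.normalClosure_normal (s := ({z} : Set Cfsg.Spor.Fi23))) with h | h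
      · have := Subgroup.subset_normalClosure (Set.mem_singleton z)
        rw [h] at this
        exact absurd (Subgroup.mem_bot.1 this) z_ne_one
      · exact h
    rw [← hn, Subgroup.normalClosure, Group.conjugatesOfSet]
    congr 1
    simp [transpositions]

/-- The centralizer of a transposition is a non-split double cover of Fi22. -/
theorem centralizer_cover {d : Cfsg.Spor.Fi23} (hd : d ∈ transpositions) :
    Cfsg.IsNonsplitDoubleCover (Subgroup.centralizer ({d} : Set Cfsg.Spor.Fi23)) Cfsg.Spor.Fi22 := by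
  obtain ⟨g, rfl⟩ := isConj_iff.1 hd
  have e : Subgroup.centralizer ({g * z * g⁻¹} : Set Cfsg.Spor.Fi23) =
      H.map (MulAut.conj g).toMonoidHom := by
    ext x
    rw [← centralizer_z, Subgroup.mem_map_equiv, Subgroup.mem_centralizer_singleton_iff,
      Subgroup.mem_centralizer_singleton_iff, MulAut.conj_symm_apply]
    constructor
    · intro h
      calc g⁻¹ * x * g * z = g⁻¹ * (x * (g * z * g⁻¹)) * g := by simp [mul_assoc]
        _ = g⁻¹ * (g * z * g⁻¹ * x) * g := by rw [h]
        _ = z * (g⁻¹ * x * g) := by simp [mul_assoc]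
    · intro h
      calc x * (g * z * g⁻¹) = g * (g⁻¹ * x * g * z) * g⁻¹ := by simp [mul_assoc]
        _ = g * (z * (g⁻¹ * x * g)) * g⁻¹ := by rw [h]
        _ = g * z * g⁻¹ * x := by simp [mul_assoc]
  rw [e]
  exact cover_of_mulEquiv double_cover ((MulAut.conj g).subgroupMap H)

end CfsgLib.Spor.Fi23
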