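import Cfsg.Agent.Lib.Spor.Fi23.OutDefs

/-!
Kernel checks for the automorphisms of the presented group Fi23.
-/

namespace CfsgLib.Spor.Fi23.Auto

open CfsgLib.PresCert

local notation "app" => Wide.PermData.app Perm.data

theorem tree0 : allBelow level0.len (treeAt level0) = true := by decide +kernel

theorem cover0 : allBelow Perm.data.n (coverAt prev0 level0) = true := by decide +kernel

theorem gens0 : okGens prev0 level0 = true := by decide +kernel

theorem tree1 : allBelow level1.len (treeAt level1) = true := by decide +kernel

theorem cover1 : allBelow Perm.data.n (coverAt prev1 level1) = true := by decide +kernel

theorem gens1 : okGens prev1 level1 = true := by decide +kernel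

theorem tree2 : allBelow level2.len (treeAt level2) = true := by decide +kernel

theorem cover2 : allBelow Perm.data.n (coverAt prev2 level2) = true := by decide +kernel

theorem gens2 : okGens prev2 level2 = true := by decide +kernel

theorem tree3 : allBelow level3.len (treeAt level3) = true := by decide +kernel

theorem cover3 : allBelow Perm.data.n (coverAt prev3 level3) = true := by decide +kernel

theorem gens3 : okGens prev3 level3 = true := by decide +kernel

theorem tree4 : allBelow level4.len (treeAt level4) = true := by decide +kernel

theorem cover4 : allBelow Perm.data.n (coverAt prev4 level4) = true := by decide +kernel

theorem gens4 : okGens prev4 level4 = true := by decide +kernel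

theorem tree5 : allBelow level5.len (treeAt level5) = true := by decide +kernel

theorem cover5 : allBelow Perm.data.n (coverAt prev5 level5) = true := by decide +kernel

theorem gens5 : okGens prev5 level5 = true := by decide +kernel

theorem tree6 : allBelow level6.len (treeAt level6) = true := by decide +kernel

theorem cover6 : allBelow Perm.data.n (coverAt prev6 level6) = true := by decide +kernel

theorem gens6 : okGens prev6 level6 = true := by decide +kernel

theorem tree7 : allBelow level7.len (treeAt level7) = true := by decide +kernel

theorem cover7 : allBelow Perm.data.n (coverAt prev7 level7) = true := by decide +kernel

theorem gens7 : okGens prev7 level7 = true := by decide +kernel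

theorem tree8 : allBelow level8.len (treeAt level8) = true := by decide +kernel

theorem cover8 : allBelow Perm.data.n (coverAt prev8 level8) = true := by decide +kernel

theorem gens8 : okGens prev8 level8 = true := by decide +kernel

theorem tree9 : allBelow level9.len (treeAt level9) = true := by decide +kernel

theorem cover9 : allBelow Perm.data.n (coverAt prev9 level9) = true := by decide +kernel

theorem gens9 : okGens prev9 level9 = true := by decide +kernel

end CfsgLib.Spor.Fi23.Auto
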