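import Cfsg.Agent.Lib.Spor.Fi23.OutInvol
import Cfsg.Agent.Lib.Spor.Fi23.OutChkA
import Cfsg.Prelude.Def_KGroupFacts

/-!
Every automorphism of the presented group Fi23 is inner.
-/

namespace CfsgLib.Spor.Fi23.Auto

open CfsgLib.PresCert Cfsg.Spor

local notation "N" => Perm.data.n
local notation "app" => Wide.PermData.app Perm.data
local notation "F" => Cfsg.Spor.Fi23

/-- the point of an element of the frame -/
noncomputable def ept (k : ℕ) (hk : k < 11) : Fin N := ⟨elPt k, genPts_lt k hk⟩

theorem π_el (k : ℕ) (hk : k < 11) (i : Fin N) :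
    ((π (dq (ept k hk)) i : Fin N) : ℕ) = elImg k i := by
  rcases lt_or_ge k 10 with h | h
  · have e : ept k hk = gpt (ofIdx k) := Fin.ext (by
      show elPt k = elPt (idx (ofIdx k))
      rw [idx_ofIdx k h])
    rw [e, dq_gpt, π_gen, idx_ofIdx k h, elImg, show Nat.blt k 10 = true from Nat.blt_eq ▸ h]
  · obtain rfl : k = 10 := by omega
    rw [π_dq (w := w5) (by decide) (show app w5 0 = ((ept 10 hk : Fin N) : ℕ) by
      show app w5 0 = elPt 10
      decide +kernel)]
    rfl

/-- the automorphism fixes the transpositions of the listed elements -/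
def Fixes (φ : MulAut F) (prev : List ℕ) : Prop :=
  ∀ k ∈ prev, ∀ hk : k < 11, φ (dq (ept k hk)) = dq (ept k hk)

theorem exists_img (φ : MulAut F) (p : Fin N) : ∃ q, φ (dq p) = dq q := by
  obtain ⟨g, hg⟩ := exists_conj_z φ
  obtain ⟨c, rfl⟩ := transitive p
  refine ⟨π (φ c * g⁻¹) i₀, ?_⟩
  rw [dq_of_eq (g := c) rfl, dq_of_eq (g := φ c * g⁻¹) rfl]
  have : φ z = g⁻¹ * z * g :=
    calc φ z = g⁻¹ * (g * φ z * g⁻¹) * g := by group
      _ = g⁻¹ * z * g := by rw [hg]
  rw [map_mul, map_mul, map_inv, this]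
  group

theorem tree_reach {prev : List ℕ} {L : Level} (hprev : ∀ q ∈ prev, q < 11)
    (ht : allBelow L.len (treeAt L) = true) (hg : okGens prev L = true)
    (hb : L.base < N) (p : ℕ) (hp : p < L.len) :
    ∃ a : F, (∀ q, ∀ hq : q ∈ prev, π a (ept q (hprev q hq)) = ept q (hprev q hq)) ∧
      ((π a ⟨L.base, hb⟩ : Fin N) : ℕ) = Nat.land (L.orb.word p) 65535 := by
  induction p using Nat.strong_induction_on with
  | _ p ih =>
    have h := allBelow_spec ht p hp
    cases h0 : Nat.beq p 0 with
    | true =>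
      simp only [treeAt, h0, cond_true, Nat.beq_eq] at h
      exact ⟨1, fun q hq => by simp, by rw [map_one, Equiv.Perm.one_apply, h]⟩
    | false =>
      simp only [treeAt, h0, cond_false, Bool.and_eq_true, Nat.blt_eq, Nat.beq_eq] at h
      obtain ⟨⟨hpar, hk⟩, himg⟩ := h
      obtain ⟨a, ha, ea⟩ := ih _ hpar (hpar.trans hp)
      have hmem : L.gens.getD (Nat.shiftRight (L.orb.word p) 32) 0 ∈ L.gens := by
        rw [List.getD_eq_getElem?_getD, List.getElem?_eq_getElem hk]
        exact List.getElem_mem hk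
      simp only [okGens, List.all_eq_true, Bool.and_eq_true, Nat.blt_eq, Nat.beq_eq] at hg
      obtain ⟨hk11, hfix⟩ := hg _ hmem
      refine ⟨dq (ept _ hk11) * a, fun q hq => ?_, ?_⟩
      · rw [map_mul, Equiv.Perm.mul_apply, ha q hq]
        refine Fin.ext ?_
        rw [π_el _ hk11]
        exact hfix q hq
      · rw [map_mul, Equiv.Perm.mul_apply, π_el _ hk11, ea]
        exact himg

/-- one level of the frame -/
theorem level_step (φ : MulAut F) {prev : List ℕ} {L : Level} {x : ℕ} (hx : x < 11)
    (hprev : ∀ q ∈ prev, q < 11) (hne : ∀ q ∈ prev, elPt q ≠ elPt x) (hbase : L.base = elPt x)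
    (ht : allBelow L.len (treeAt L) = true) (hcov : allBelow N (coverAt prev L) = true)
    (hg : okGens prev L = true) (hφ : Fixes φ prev) :
    ∃ a : F, Fixes (MulAut.conj a * φ) (x :: prev) := by
  obtain ⟨c, hc⟩ := exists_img φ (ept x hx)
  have hcand : candAt prev L c = true := by
    simp only [candAt, List.all_eq_true, Bool.and_eq_true, Bool.not_eq_true']
    intro q hq
    have hqf := hφ q hq (hprev q hq)
    refine ⟨Bool.eq_false_iff.2 fun hb => ?_, ?_⟩
    · have e : c = ept q (hprev q hq) := Fin.ext (Nat.eq_of_beq_eq_true hb)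
      rw [e, ← hqf] at hc
      exact hne q hq (congrArg Fin.val (dq_injective (φ.injective hc))).symm
    · -- commuting is preserved
      have hrel : Rel (ept q (hprev q hq)) c ↔ Rel (ept q (hprev q hq)) (ept x hx) := by
        rw [rel_iff, rel_iff, ← hc]
        conv_lhs => rw [← hqf, ← map_mul, ← map_mul]
        exact φ.injective.eq_iff
      simp only [Rel, Fin.ext_iff, π_el] at hrel
      rw [show ((ept x hx : Fin N) : ℕ) = L.base from hbase.symm] at hrel
      cases hb : Nat.beq (elImg q L.base) L.base with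
      | true =>
        rw [cond_true, Nat.beq_eq]
        exact hrel.2 (Nat.eq_of_beq_eq_true hb)
      | false =>
        rw [cond_false, Bool.not_eq_true']
        refine Bool.eq_false_iff.2 fun hb' => ?_
        rw [Nat.beq_eq] at hb'
        rw [hrel.1 hb', Nat.beq_refl] at hb
        exact Bool.noConfusion hb
  have h := allBelow_spec hcov c c.2
  simp only [coverAt, hcand, cond_true, Bool.and_eq_true, Nat.blt_eq, Nat.beq_eq] at h
  obtain ⟨hlt, hc'⟩ := h
  have hb : L.base < N := by rw [hbase]; exact genPts_lt x hx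
  obtain ⟨a, ha, ea⟩ := tree_reach hprev ht hg hb _ hlt
  have hac : π a (ept x hx) = c := Fin.ext (by
    rw [← hc', ← ea]
    congr 3
    exact Fin.ext hbase.symm)
  refine ⟨a⁻¹, fun k hk hk' => ?_⟩
  rw [MulAut.mul_apply, MulAut.conj_apply]
  rcases List.mem_cons.1 hk with rfl | hk
  · rw [hc, conj_dq, map_inv]
    refine congrArg dq ?_
    rw [Equiv.Perm.inv_eq_iff_eq, hac]
  · rw [hφ k hk hk', conj_dq, map_inv]
    refine congrArg dq ?_
    rw [Equiv.Perm.inv_eq_iff_eq]
    exact (ha k hk).symm

theorem mem_inn (φ : MulAut F) : φ ∈ Cfsg.Inn F := by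
  -- the first point
  obtain ⟨c, hc⟩ := exists_img φ (ept 7 (by decide))
  obtain ⟨g, hg⟩ := transitive (ept 7 (by decide))
  obtain ⟨b, hb⟩ := transitive c
  let φ₀ : MulAut F := MulAut.conj (g * b⁻¹) * φ
  have h0 : Fixes φ₀ [7] := by
    intro k hk hk'
    obtain rfl : k = 7 := by simpa using hk
    rw [MulAut.mul_apply, MulAut.conj_apply, hc, conj_dq]
    refine congrArg dq ?_
    have hbc : π b⁻¹ c = i₀ := by rw [map_inv, Equiv.Perm.inv_eq_iff_eq, hb]
    rw [map_mul, Equiv.Perm.mul_apply, hbc]
    exact hg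
  obtain ⟨a0, h1⟩ := level_step φ₀ (prev := prev0) (L := level0) (x := 6) (by decide) (by decide)
    (by decide) (by decide) tree0 cover0 gens0 h0
  obtain ⟨a1, h2⟩ := level_step _ (prev := prev1) (L := level1) (x := 5) (by decide) (by decide)
    (by decide) (by decide) tree1 cover1 gens1 (fun k hk => h1 k (by revert hk; simp [prev1, prev0]; tauto))
  obtain ⟨a2, h3⟩ := level_step _ (prev := prev2) (L := level2) (x := 4) (by decide) (by decide)
    (by decide) (by decide) tree2 cover2 gens2 (fun k hk => h2 k (by revert hk; simp [prev2, prev1]; tauto))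
  obtain ⟨a3, h4⟩ := level_step _ (prev := prev3) (L := level3) (x := 0) (by decide) (by decide)
    (by decide) (by decide) tree3 cover3 gens3 (fun k hk => h3 k (by revert hk; simp [prev3, prev2]; tauto))
  obtain ⟨a4, h5⟩ := level_step _ (prev := prev4) (L := level4) (x := 1) (by decide) (by decide)
    (by decide) (by decide) tree4 cover4 gens4 (fun k hk => h4 k (by revert hk; simp [prev4, prev3]; tauto))
  obtain ⟨a5, h6⟩ := level_step _ (prev := prev5) (L := level5) (x := 2) (by decide) (by decide)
    (by decide) (by decide) tree5 cover5 gens5 (fun k hk => h5 k (by revert hk; simp [prev5, prev4]; tauto))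
  obtain ⟨a6, h7⟩ := level_step _ (prev := prev6) (L := level6) (x := 10) (by decide) (by decide)
    (by decide) (by decide) tree6 cover6 gens6 (fun k hk => h6 k (by revert hk; simp [prev6, prev5]; tauto))
  obtain ⟨a7, h8⟩ := level_step _ (prev := prev7) (L := level7) (x := 8) (by decide) (by decide)
    (by decide) (by decide) tree7 cover7 gens7 (fun k hk => h7 k (by revert hk; simp [prev7, prev6]; tauto))
  obtain ⟨a8, h9⟩ := level_step _ (prev := prev8) (L := level8) (x := 9) (by decide) (by decide)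
    (by decide) (by decide) tree8 cover8 gens8 (fun k hk => h8 k (by revert hk; simp [prev8, prev7]; tauto))
  obtain ⟨a9, h10⟩ := level_step _ (prev := prev9) (L := level9) (x := 3) (by decide) (by decide)
    (by decide) (by decide) tree9 cover9 gens9 (fun k hk => h9 k (by revert hk; simp [prev9, prev8]; tauto))
  set ψ : MulAut F := MulAut.conj a9 * (MulAut.conj a8 * (MulAut.conj a7 * (MulAut.conj a6 *
    (MulAut.conj a5 * (MulAut.conj a4 * (MulAut.conj a3 * (MulAut.conj a2 * (MulAut.conj a1 *
    (MulAut.conj a0 * φ₀))))))))) with hψ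
  have hfix : ψ = 1 := by
    have hgen : ∀ x, ψ (gen x) = gen x := by
      intro x
      have hk : idx x < 11 := by cases x <;> decide
      have e : ept (idx x) hk = gpt x := rfl
      have := h10 (idx x) (by cases x <;> decide) hk
      rwa [e, dq_gpt] at this
    have heq : ψ.toMonoidHom = MonoidHom.id F :=
      MonoidHom.eq_of_eqOn_dense closure_gen (by rintro _ ⟨x, rfl⟩; exact hgen x)
    exact MulEquiv.ext fun y => DFunLike.congr_fun heq y
  have hin : ∀ a : F, MulAut.conj a ∈ Cfsg.Inn F := fun a => ⟨a, rfl⟩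
  have hcomb : (MulAut.conj a9 * (MulAut.conj a8 * (MulAut.conj a7 * (MulAut.conj a6 *
    (MulAut.conj a5 * (MulAut.conj a4 * (MulAut.conj a3 * (MulAut.conj a2 * (MulAut.conj a1 *
    (MulAut.conj a0 * (MulAut.conj (g * b⁻¹) * φ))))))))))) ∈ Cfsg.Inn F := by
    show ψ ∈ _
    rw [hfix]
    exact one_mem _
  simpa only [Subgroup.mul_mem_cancel_left _ (hin _)] using hcomb

theorem natCard_out : Nat.card (Cfsg.Out F) = 1 := by
  have h : Cfsg.Inn F = ⊤ := eq_top_iff.2 fun φ _ => mem_inn φ
  show Nat.card (MulAut F ⧸ Cfsg.Inn F) = 1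
  rw [← Subgroup.index, h, Subgroup.index_top]

end CfsgLib.Spor.Fi23.Auto
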