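import Cfsg.Agent.Lib.Spor.Fi23.Order
import Cfsg.Agent.Lib.PresCert.Simple

/-!
The subgroup of index 31671 of the presented Fischer group Fi23, the action on its cosets and the
orbits of the subgroup.
-/

namespace CfsgLib.Spor.Fi23

open CfsgLib.PresCert Cfsg.Spor

/-- the subgroup of index 31671 -/
noncomputable def H : Subgroup Cfsg.Spor.Fi23 := lettersGroup hGens gen

/-- the representation on 31671 points -/
noncomputable def π : Cfsg.Spor.Fi23 →* Equiv.Perm (Fin Perm.data.n) :=
  Wide.rep Perm.data idx Perm.invol_ok wordsFor relNums_ok rels_covered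

theorem idx_lt (x : Fi23.Gen) : idx x < Perm.data.g := by
  show idx x < 10
  cases x <;> simp [idx]

theorem π_gen (x : Fi23.Gen) (i : Fin Perm.data.n) :
    ((π (gen x) i : Fin Perm.data.n) : ℕ) = Perm.data.img (idx x) i := by
  rw [π, Wide.rep_of Perm.invol_ok wordsFor relNums_ok rels_covered x]
  exact Wide.PermData.genPerm_img Perm.invol_ok (idx_lt x) i

theorem π_word (w : List Fi23.Gen) (i : Fin Perm.data.n) :
    ((π ((w.map gen).prod) i : Fin Perm.data.n) : ℕ) = Perm.data.app (w.map idx).reverse i := by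
  have h : π (w.map gen).prod = ((w.map idx).map (Wide.PermData.genPerm Perm.invol_ok)).prod := by
    rw [map_list_prod, List.map_map, List.map_map]
    refine congrArg List.prod (List.map_congr_left fun x _ => ?_)
    exact Wide.rep_of Perm.invol_ok wordsFor relNums_ok rels_covered x
  rw [h]
  refine Wide.PermData.prod_apply Perm.invol_ok (w.map idx) (fun k hk => ?_) i
  obtain ⟨x, -, rfl⟩ := List.mem_map.1 hk
  exact idx_lt x

theorem index_H_le : H.index ≤ 31671 := by
  have h := (index_bound G0.valid gen_sq gen_known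
    (sel := allGens) (subs := hGens.map fun x => [x]) (d := .a)
    (by decide +kernel) (by decide +kernel)).1
  rw [wordsGroup_singletons, top_eq_lettersGroup (edges := Fi23.edges) (extra := Fi23.extra) allGens
    mem_allGens, Subgroup.relIndex_top_right] at h
  exact h

theorem index_H : H.index = 31671 := by
  have h := H.card_mul_index
  rw [natCard] at h
  refine le_antisymm index_H_le ?_
  by_contra hlt
  have : Nat.card H * H.index ≤ 129123503308800 * 31670 :=
    Nat.mul_le_mul card_H_le.2 (by omega)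
  omega

theorem card_H : Nat.card H = 129123503308800 := by
  have h := H.card_mul_index
  rw [index_H, natCard] at h
  refine Nat.eq_of_mul_eq_mul_right (show 0 < 31671 by decide) (h.trans ?_)
  rfl

theorem degree : Perm.data.n = 31671 := by decide +kernel

/-- the base point -/
noncomputable def i₀ : Fin Perm.data.n := ⟨0, by rw [degree]; decide⟩

theorem hGens_fix : ∀ x ∈ hGens, Perm.data.img (idx x) 0 = 0 := by decide +kernel

theorem H_fix : ∀ h ∈ H, π h i₀ = i₀ := by
  intro h hh
  induction hh using Subgroup.closure_induction with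
  | mem q hq =>
    obtain ⟨x, hx, rfl⟩ := hq
    exact Fin.ext (by rw [π_gen]; exact hGens_fix x hx)
  | one => simp
  | mul a b _ _ ha hb => rw [map_mul, Equiv.Perm.mul_apply, hb, ha]
  | inv a _ ha => rw [map_inv, Equiv.Perm.inv_eq_iff_eq, ha]

theorem sub_facts : Perm.sub0.len = 28160 ∧ Perm.sub1.len = 3510 ∧ Perm.sub0.base = 1 ∧
    Perm.sub1.base = 52 ∧ Perm.sub0.gens = hGens.map idx ∧ Perm.sub1.gens = hGens.map idx ∧
    Perm.lev0.len = 31671 ∧ Perm.lev0.base = 0 ∧ Perm.lev0.gens = allGens.map idx := by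
  decide +kernel

/-- the image of a subgroup given by letters -/
theorem map_lettersGroup (l : List Fi23.Gen) :
    (lettersGroup l gen).map π =
      Subgroup.closure {σ | ∃ k ∈ l.map idx, Wide.PermData.genPerm Perm.invol_ok k = σ} := by
  rw [lettersGroup, MonoidHom.map_closure]
  congr 1
  ext σ
  constructor
  · rintro ⟨_, ⟨x, hx, rfl⟩, rfl⟩
    exact ⟨idx x, List.mem_map.2 ⟨x, hx, rfl⟩,
      (Wide.rep_of Perm.invol_ok wordsFor relNums_ok rels_covered x).symm⟩
  · rintro ⟨k, hk, rfl⟩
    obtain ⟨x, hx, rfl⟩ := List.mem_map.1 hk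
    exact ⟨gen x, ⟨x, hx, rfl⟩, Wide.rep_of Perm.invol_ok wordsFor relNums_ok rels_covered x⟩

theorem orbit_ncard (L : Level) (ho : Perm.data.okOrbit L = true)
    (hc : Perm.data.okClosed L = true) (l : List Fi23.Gen) (hg : L.gens = l.map idx)
    (hb : L.base < Perm.data.n) :
    Set.ncard {i | ∃ k ∈ lettersGroup l gen, π k ⟨L.base, hb⟩ = i} = L.len := by
  rw [← Wide.PermData.ncard_orbit (Wide.PermData.interp Perm.invol_ok) L ho hc
    (fun k hk => by
      obtain ⟨x, -, rfl⟩ := List.mem_map.1 (hg ▸ hk)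
      exact idx_lt x) ((lettersGroup l gen).map π) (by rw [map_lettersGroup, hg]; rfl) hb]
  congr 1
  ext i
  constructor
  · rintro ⟨k, hk, e⟩
    exact ⟨π k, ⟨k, hk, rfl⟩, e⟩
  · rintro ⟨_, ⟨k, hk, rfl⟩, e⟩
    exact ⟨k, hk, e⟩

theorem transitive : ∀ i, ∃ g, π g i₀ = i := by
  intro i
  obtain ⟨-, -, -, -, -, -, hlen, hbase, hgens⟩ := sub_facts
  have hb : Perm.lev0.base < Perm.data.n := by rw [hbase, degree]; decide
  obtain ⟨σ, hσ, e⟩ := Wide.PermData.exists_image_of_full (Wide.PermData.interp Perm.invol_ok)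
    Perm.lev0 Perm.lev0_orbit (fun k hk => by
      obtain ⟨x, -, rfl⟩ := List.mem_map.1 (hgens ▸ hk)
      exact idx_lt x) (hlen.trans degree.symm) hb i
  have hle : Wide.PermData.grp (Wide.PermData.interp Perm.invol_ok) ≤ π.range := by
    rw [Wide.PermData.grp, Subgroup.closure_le]
    rintro _ ⟨k, hk, rfl⟩
    obtain ⟨x, rfl⟩ := idx_surj k hk
    exact ⟨gen x, Wide.rep_of Perm.invol_ok wordsFor relNums_ok rels_covered x⟩
  obtain ⟨g, rfl⟩ := hle hσ
  refine ⟨g, ?_⟩
  rw [← e]
  congr 1

/-- The subgroup has two further orbits, of lengths 3510 and 28160. -/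
theorem orbits : ∃ q₁ q₂ : Cfsg.Spor.Fi23 ⧸ H,
    (MulAction.orbit H q₁).ncard = 3510 ∧ (MulAction.orbit H q₂).ncard = 28160 := by
  obtain ⟨l0, l1, b0, b1, g0, g1, -, -, -⟩ := sub_facts
  have hidx : H.index = Perm.data.n := by rw [index_H, degree]
  obtain ⟨q₁, h₁⟩ := exists_orbit_ncard π H i₀ H_fix hidx transitive
    ⟨Perm.sub1.base, by rw [b1, degree]; decide⟩ 3510
    ((orbit_ncard Perm.sub1 Perm.sub1_orbit Perm.sub1_closed hGens g1 _).trans l1)
  obtain ⟨q₂, h₂⟩ := exists_orbit_ncard π H i₀ H_fix hidx transitive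
    ⟨Perm.sub0.base, by rw [b0, degree]; decide⟩ 28160
    ((orbit_ncard Perm.sub0 Perm.sub0_orbit Perm.sub0_closed hGens g0 _).trans l0)
  exact ⟨q₁, q₂, h₁, h₂⟩

end CfsgLib.Spor.Fi23
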