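import Cfsg.Agent.Lib.Spor.Fi23.PermData
import Cfsg.Agent.Lib.Spor.Fi23.PermZData

/-!
Kernel checks for the central element.
-/

namespace CfsgLib.Spor.Fi23.Perm

open CfsgLib.PresCert

theorem zWord_0 : allBin data.n (fun i => Nat.beq (data.app [8, 6, 5, 4, 3, 2, 1] i) (zData.img 0 i)) 14 0 = true := by decide +kernel

theorem zWord_1 : allBin data.n (fun i => Nat.beq (data.app [8, 6, 5, 4, 3, 2, 1] i) (zData.img 0 i)) 14 16384 = true := by decide +kernel

theorem zThree_0 : allBin data.n (fun i => Nat.beq (zData.app [0, 0, 0] i) (zData.img 1 i)) 15 0 = true := by decide +kernel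

theorem zNine_0 : allBin data.n (fun i => Nat.beq (zData.app [1, 1, 1] i) (zData.img 2 i)) 15 0 = true := by decide +kernel

theorem zSq_0 : allBin data.n (fun i => Nat.beq (zData.img 2 (zData.img 2 i)) i) 15 0 = true := by decide +kernel

end CfsgLib.Spor.Fi23.Perm
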