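import Cfsg.Agent.Lib.Spor.Fi23.PermData
import Cfsg.Agent.Lib.Spor.Fi23.PermZData

/-!
Kernel checks for the central element.
-/

namespace CfsgLib.Spor.Fi23.Perm

open CfsgLib.PresCert

theorem zComm6_0 : allBin data.n (fun i => Nat.beq (data.img 6 (zData.img 2 i)) (zData.img 2 (data.img 6 i))) 15 0 = true := by decide +kernel

theorem zComm8_0 : allBin data.n (fun i => Nat.beq (data.img 8 (zData.img 2 i)) (zData.img 2 (data.img 8 i))) 15 0 = true := by decide +kernel

theorem zComm9_0 : allBin data.n (fun i => Nat.beq (data.img 9 (zData.img 2 i)) (zData.img 2 (data.img 9 i))) 15 0 = true := by decide +kernel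

end CfsgLib.Spor.Fi23.Perm
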