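import Mathlib.Tactic.IntervalCases
import Cfsg.Agent.Lib.PresCert.WidePower
import Cfsg.Agent.Lib.Spor.Fi23.PermZChk0
import Cfsg.Agent.Lib.Spor.Fi23.PermZChk1
import Cfsg.Agent.Lib.Spor.Fi23.PermZChk2
import Cfsg.Agent.Lib.Spor.Fi23.PermZChk3

/-!
The checks for the central element assembled.
-/

namespace CfsgLib.Spor.Fi23.Perm

open CfsgLib.PresCert

theorem zWord : allBelow data.n (fun i => Nat.beq (data.app [8, 6, 5, 4, 3, 2, 1] i) (zData.img 0 i)) = true :=
  Wide.PermData.allBelow_of_chunks (m := 2) (d := 14) (by decide +kernel) (by decide +kernel)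
    fun j hj => by
      interval_cases j
      exacts [zWord_0, zWord_1]

theorem zThree : allBelow data.n (fun i => Nat.beq (zData.app [0, 0, 0] i) (zData.img 1 i)) = true :=
  Wide.PermData.allBelow_of_chunks (m := 1) (d := 15) (by decide +kernel) (by decide +kernel)
    fun j hj => by
      interval_cases j
      exacts [zThree_0]

theorem zNine : allBelow data.n (fun i => Nat.beq (zData.app [1, 1, 1] i) (zData.img 2 i)) = true :=
  Wide.PermData.allBelow_of_chunks (m := 1) (d := 15) (by decide +kernel) (by decide +kernel)
    fun j hj => by
      interval_cases j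
      exacts [zNine_0]

theorem zSq : allBelow data.n (fun i => Nat.beq (zData.img 2 (zData.img 2 i)) i) = true :=
  Wide.PermData.allBelow_of_chunks (m := 1) (d := 15) (by decide +kernel) (by decide +kernel)
    fun j hj => by
      interval_cases j
      exacts [zSq_0]

theorem zComm0 : allBelow data.n (fun i => Nat.beq (data.img 0 (zData.img 2 i)) (zData.img 2 (data.img 0 i))) = true :=
  Wide.PermData.allBelow_of_chunks (m := 1) (d := 15) (by decide +kernel) (by decide +kernel)
    fun j hj => by
      interval_cases j
      exacts [zComm0_0]

theorem zComm1 : allBelow data.n (fun i => Nat.beq (data.img 1 (zData.img 2 i)) (zData.img 2 (data.img 1 i))) = true :=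
  Wide.PermData.allBelow_of_chunks (m := 1) (d := 15) (by decide +kernel) (by decide +kernel)
    fun j hj => by
      interval_cases j
      exacts [zComm1_0]

theorem zComm2 : allBelow data.n (fun i => Nat.beq (data.img 2 (zData.img 2 i)) (zData.img 2 (data.img 2 i))) = true :=
  Wide.PermData.allBelow_of_chunks (m := 1) (d := 15) (by decide +kernel) (by decide +kernel)
    fun j hj => by
      interval_cases j
      exacts [zComm2_0]

theorem zComm3 : allBelow data.n (fun i => Nat.beq (data.img 3 (zData.img 2 i)) (zData.img 2 (data.img 3 i))) = true :=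
  Wide.PermData.allBelow_of_chunks (m := 1) (d := 15) (by decide +kernel) (by decide +kernel)
    fun j hj => by
      interval_cases j
      exacts [zComm3_0]

theorem zComm4 : allBelow data.n (fun i => Nat.beq (data.img 4 (zData.img 2 i)) (zData.img 2 (data.img 4 i))) = true :=
  Wide.PermData.allBelow_of_chunks (m := 1) (d := 15) (by decide +kernel) (by decide +kernel)
    fun j hj => by
      interval_cases j
      exacts [zComm4_0]

theorem zComm5 : allBelow data.n (fun i => Nat.beq (data.img 5 (zData.img 2 i)) (zData.img 2 (data.img 5 i))) = true :=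
  Wide.PermData.allBelow_of_chunks (m := 1) (d := 15) (by decide +kernel) (by decide +kernel)
    fun j hj => by
      interval_cases j
      exacts [zComm5_0]

theorem zComm6 : allBelow data.n (fun i => Nat.beq (data.img 6 (zData.img 2 i)) (zData.img 2 (data.img 6 i))) = true :=
  Wide.PermData.allBelow_of_chunks (m := 1) (d := 15) (by decide +kernel) (by decide +kernel)
    fun j hj => by
      interval_cases j
      exacts [zComm6_0]

theorem zComm8 : allBelow data.n (fun i => Nat.beq (data.img 8 (zData.img 2 i)) (zData.img 2 (data.img 8 i))) = true :=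
  Wide.PermData.allBelow_of_chunks (m := 1) (d := 15) (by decide +kernel) (by decide +kernel)
    fun j hj => by
      interval_cases j
      exacts [zComm8_0]

theorem zComm9 : allBelow data.n (fun i => Nat.beq (data.img 9 (zData.img 2 i)) (zData.img 2 (data.img 9 i))) = true :=
  Wide.PermData.allBelow_of_chunks (m := 1) (d := 15) (by decide +kernel) (by decide +kernel)
    fun j hj => by
      interval_cases j
      exacts [zComm9_0]

theorem z_moves : Nat.beq (zData.img 2 1) 1 = false := by decide +kernel

end CfsgLib.Spor.Fi23.Perm
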