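import Cfsg.Agent.Lib.Spor.Fi23.Simple
import Cfsg.Agent.Lib.Spor.Fi23.PermZ
import Cfsg.Agent.Lib.Spor.Fi22.Simple
import Cfsg.Prelude.Def_SporadicB

/-!
The subgroup of index 31671 of the presented group Fi23 is a non-split double cover of the
presented group Fi22.
-/

namespace CfsgLib.Spor.Fi23

open CfsgLib.PresCert Cfsg.Spor

/-- the word `bcdefgh` -/
def sevenWord : List Fi23.Gen := [.b, .c, .d, .e, .f, .g, .h]

/-- the element `(bcdefgh) ^ 9` -/
noncomputable def z : Cfsg.Spor.Fi23 := (((sevenWord.map gen).prod) ^ 3) ^ 3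

theorem sevenWord_rev : (sevenWord.map idx).reverse = [8, 6, 5, 4, 3, 2, 1] := by decide

theorem π_pow (y : Cfsg.Spor.Fi23) (k : ℕ)
    (hy : ∀ i : Fin Perm.data.n, ((π y i : Fin Perm.data.n) : ℕ) = Perm.zData.img k i) (m : ℕ) :
    ∀ i : Fin Perm.data.n,
      ((π (y ^ m) i : Fin Perm.data.n) : ℕ) = Perm.zData.app (List.replicate m k) i := by
  induction m with
  | zero => intro i; rw [pow_zero, map_one]; rfl
  | succ m ih =>
    intro i
    rw [pow_succ, map_mul, Equiv.Perm.mul_apply, ih, hy]
    rfl

theorem π_z (i : Fin Perm.data.n) :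
    ((π z i : Fin Perm.data.n) : ℕ) = Perm.zData.img 2 i := by
  have h1 : ∀ i : Fin Perm.data.n,
      ((π (sevenWord.map gen).prod i : Fin Perm.data.n) : ℕ) = Perm.zData.img 0 i := fun i => by
    rw [π_word, sevenWord_rev]
    exact Nat.eq_of_beq_eq_true (allBelow_spec Perm.zWord i i.2)
  have h2 : ∀ i : Fin Perm.data.n,
      ((π ((sevenWord.map gen).prod ^ 3) i : Fin Perm.data.n) : ℕ) = Perm.zData.img 1 i := fun i => by
    rw [π_pow _ 0 h1]
    exact Nat.eq_of_beq_eq_true (allBelow_spec Perm.zThree i i.2)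
  rw [z, π_pow _ 1 h2]
  exact Nat.eq_of_beq_eq_true (allBelow_spec Perm.zNine i i.2)

theorem z_ne_one : z ≠ 1 := by
  intro h
  have hb : 1 < Perm.data.n := by rw [degree]; decide
  have e := π_z ⟨1, hb⟩
  rw [h, map_one, Equiv.Perm.one_apply] at e
  have hm := Perm.z_moves
  rw [show Perm.zData.img 2 1 = 1 from e.symm] at hm
  exact absurd hm (by decide)

theorem z_sq : z * z = 1 := by
  refine π_injective ?_
  rw [map_mul, map_one]
  refine Equiv.ext fun i => Fin.ext ?_
  rw [Equiv.Perm.mul_apply, π_z, π_z]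
  exact Nat.eq_of_beq_eq_true (allBelow_spec Perm.zSq i i.2)

theorem z_comm (x : Fi23.Gen) (hx : x ∈ hGens) : gen x * z = z * gen x := by
  refine π_injective ?_
  rw [map_mul, map_mul]
  refine Equiv.ext fun i => Fin.ext ?_
  rw [Equiv.Perm.mul_apply, Equiv.Perm.mul_apply, π_gen, π_z, π_z, π_gen]
  simp only [hGens, List.mem_cons, List.not_mem_nil, or_false] at hx
  rcases hx with rfl | rfl | rfl | rfl | rfl | rfl | rfl | rfl | rfl
  exacts [Nat.eq_of_beq_eq_true (allBelow_spec Perm.zComm0 i i.2),
    Nat.eq_of_beq_eq_true (allBelow_spec Perm.zComm1 i i.2),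
    Nat.eq_of_beq_eq_true (allBelow_spec Perm.zComm2 i i.2),
    Nat.eq_of_beq_eq_true (allBelow_spec Perm.zComm3 i i.2),
    Nat.eq_of_beq_eq_true (allBelow_spec Perm.zComm4 i i.2),
    Nat.eq_of_beq_eq_true (allBelow_spec Perm.zComm5 i i.2),
    Nat.eq_of_beq_eq_true (allBelow_spec Perm.zComm6 i i.2),
    Nat.eq_of_beq_eq_true (allBelow_spec Perm.zComm8 i i.2),
    Nat.eq_of_beq_eq_true (allBelow_spec Perm.zComm9 i i.2)]

theorem gen_mem_H {x : Fi23.Gen} (hx : x ∈ hGens) : gen x ∈ H :=
  Subgroup.subset_closure ⟨x, hx, rfl⟩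

theorem z_mem : z ∈ H := by
  refine H.pow_mem (H.pow_mem (list_prod_mem fun q hq => ?_) 3) 3
  obtain ⟨x, hx, rfl⟩ := List.mem_map.1 hq
  refine gen_mem_H ?_
  revert hx
  cases x <;> simp [sevenWord, hGens]

/-- the central element in the subgroup -/
noncomputable def zH : H := ⟨z, z_mem⟩

/-- the letters of the smaller group among those of the larger -/
def lift : Fi22.Gen → Fi23.Gen
  | .a => .a | .b => .b | .c => .c | .d => .d | .e => .e | .f => .f | .g => .g | .h => .h
  | .i => .i

theorem lift_mem (x : Fi22.Gen) : lift x ∈ hGens := by cases x <;> decide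

theorem exists_lift {x : Fi23.Gen} (hx : x ∈ hGens) : ∃ y, lift y = x := by
  simp only [hGens, List.mem_cons, List.not_mem_nil, or_false] at hx
  rcases hx with rfl | rfl | rfl | rfl | rfl | rfl | rfl | rfl | rfl
  exacts [⟨.a, rfl⟩, ⟨.b, rfl⟩, ⟨.c, rfl⟩, ⟨.d, rfl⟩, ⟨.e, rfl⟩, ⟨.f, rfl⟩, ⟨.g, rfl⟩, ⟨.h, rfl⟩,
    ⟨.i, rfl⟩]

theorem lift_label (x y : Fi22.Gen) :
    coxLabel Fi23.edges (lift x) (lift y) = coxLabel Fi22.edges x y := by
  cases x <;> cases y <;> decide

/-- a generator of the subgroup -/
noncomputable def hgen (x : Fi22.Gen) : H := ⟨gen (lift x), gen_mem_H (lift_mem x)⟩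

theorem closure_hgen : Subgroup.closure (Set.range hgen) = ⊤ := by
  rw [eq_top_iff]
  rintro ⟨q, hq⟩ -
  induction hq using Subgroup.closure_induction with
  | mem q hq =>
    obtain ⟨x, hx, rfl⟩ := hq
    obtain ⟨y, rfl⟩ := exists_lift hx
    exact Subgroup.subset_closure ⟨y, rfl⟩
  | one => exact one_mem _
  | mul a b _ _ ha hb => exact mul_mem ha hb
  | inv a _ ha => exact inv_mem ha

theorem coe_word (w : List Fi22.Gen) :
    (((w.map hgen).prod : H) : Cfsg.Spor.Fi23) = ((w.map lift).map gen).prod := by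
  induction w with
  | nil => rfl
  | cons x w ih =>
    rw [List.map_cons, List.prod_cons, Subgroup.coe_mul, ih, List.map_cons, List.map_cons,
      List.prod_cons]
    rfl

theorem zH_central : zH ∈ Subgroup.center H := by
  have h : Subgroup.closure (Set.range hgen) ≤ Subgroup.centralizer {zH} := by
    rw [Subgroup.closure_le]
    rintro _ ⟨x, rfl⟩
    rw [SetLike.mem_coe, Subgroup.mem_centralizer_singleton_iff]
    exact Subtype.ext (z_comm _ (lift_mem x))
  rw [closure_hgen] at h
  rw [Subgroup.mem_center_iff]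
  exact fun g => Subgroup.mem_centralizer_singleton_iff.1 (h (Subgroup.mem_top g))

theorem card_zpowers : Nat.card (Subgroup.zpowers zH) = 2 := by
  rw [Nat.card_zpowers, orderOf_eq_prime_iff]
  exact ⟨Subtype.ext (by rw [pow_two]; exact z_sq), fun h => z_ne_one (congrArg Subtype.val h)⟩

theorem center_Fi22 : Subgroup.center Cfsg.Spor.Fi22 = ⊥ := by
  haveI := Fi22.finite
  haveI : IsSimpleGroup Cfsg.Spor.Fi22 := Fi22.isFi22.1
  rcases IsSimpleGroup.eq_bot_or_eq_top_of_normal (Subgroup.center Cfsg.Spor.Fi22) inferInstance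
    with h | h
  · exact h
  exfalso
  have hc : Subgroup.zpowers (Fi22.gen .a) ≤ Subgroup.center Cfsg.Spor.Fi22 := h ▸ le_top
  have hn : (Subgroup.zpowers (Fi22.gen .a)).Normal := ⟨fun x hx g => by
    rwa [Subgroup.mem_center_iff.1 (hc hx) g, mul_inv_cancel_right]⟩
  have hcard := Fi22.natCard
  rcases IsSimpleGroup.eq_bot_or_eq_top_of_normal _ hn with h' | h'
  · have h1 : Fi22.gen .a ∈ (⊥ : Subgroup Cfsg.Spor.Fi22) := h' ▸ Subgroup.mem_zpowers _
    have h2 := Fi22.eq_top_of_a_mem ⊥ inferInstance h1
    rw [← Subgroup.card_top, ← h2, Subgroup.card_bot] at hcard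
    norm_num at hcard
  · have h2 : Nat.card (Subgroup.zpowers (Fi22.gen .a)) ∣ 2 := by
      rw [Nat.card_zpowers]
      exact orderOf_dvd_of_pow_eq_one (by rw [pow_two, Fi22.gen_sq])
    rw [h', Subgroup.card_top, hcard] at h2
    norm_num at h2

section Quotient

variable (N : Subgroup H) [N.Normal]

/-- the images of the generators satisfy the relations of Fi22, if the central element dies -/
theorem relators (hN : zH ∈ N) :
    ∀ r ∈ coxRelators Fi22.edges ∪ {r | r ∈ Fi22.extra},
      FreeGroup.lift (fun x => QuotientGroup.mk' N (hgen x)) r = 1 := by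
  let f : Fi22.Gen → H ⧸ N := fun x => QuotientGroup.mk' N (hgen x)
  have hq : ∀ w : List Fi22.Gen, ((w.map lift).map gen).prod = 1 → (w.map f).prod = 1 := by
    intro w hw
    have : (w.map hgen).prod = 1 := Subtype.ext ((coe_word w).trans hw)
    have e : (w.map f).prod = QuotientGroup.mk' N (w.map hgen).prod := by
      rw [map_list_prod, List.map_map]
      rfl
    rw [e, this, map_one]
  have hsq : ∀ x, f x * f x = 1 := fun x => by
    simpa using hq [x, x] (by simp [gen_sq])
  rintro r (⟨x, hx, y, hy, rfl⟩ | hr)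
  · have := hq ((List.replicate (coxLabel Fi22.edges x y) [x, y]).flatten) (by
      rw [List.map_map, prod_map_replicate_pair, ← lift_label]
      exact pgen_cox (mem_nodes _) (mem_nodes _))
    rw [prod_map_replicate_pair] at this
    simpa [f] using this
  · have e := Fi22.wordsFor f hsq
    have hmem : FreeGroup.lift f r ∈ Fi22.extraW.map fun w => (w.map f).prod :=
      e ▸ List.mem_map.2 ⟨r, hr, rfl⟩
    obtain ⟨w, hw, e'⟩ := List.mem_map.1 hmem
    rw [← e']
    simp only [Fi22.extraW, List.mem_cons, List.not_mem_nil, or_false] at hw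
    rcases hw with rfl | rfl | rfl
    · exact hq _ (gen_known _ (List.mem_append_right _ (by decide)))
    · exact hq _ (gen_known _ (List.mem_append_right _ (by decide)))
    · have e1 : ((List.replicate 9 [Fi22.Gen.b, .c, .d, .e, .f, .g, .h]).flatten.map hgen).prod =
          zH := by
        refine Subtype.ext ((coe_word _).trans ?_)
        simp [zH, z, sevenWord, lift, List.replicate_succ, pow_succ, mul_assoc]
      have e2 : ((List.replicate 9 [Fi22.Gen.b, .c, .d, .e, .f, .g, .h]).flatten.map f).prod =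
          QuotientGroup.mk' N zH := by
        rw [← e1, map_list_prod, List.map_map]
        rfl
      rw [e2]
      exact (QuotientGroup.eq_one_iff _).2 hN

/-- the map from Fi22 -/
noncomputable def toQuot (hN : zH ∈ N) : Cfsg.Spor.Fi22 →* H ⧸ N :=
  PresentedGroup.toGroup (relators N hN)

theorem toQuot_surjective (hN : zH ∈ N) : Function.Surjective (toQuot N hN) := by
  intro q
  obtain ⟨h, rfl⟩ := QuotientGroup.mk'_surjective N q
  have hle : Subgroup.closure (Set.range hgen) ≤ (toQuot N hN).range.comap (QuotientGroup.mk' N) := by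
    rw [Subgroup.closure_le]
    rintro _ ⟨x, rfl⟩
    exact ⟨PresentedGroup.of x, by simp [toQuot]⟩
  rw [closure_hgen] at hle
  exact hle (Subgroup.mem_top h)

end Quotient

theorem normal_zpowers : (Subgroup.zpowers zH).Normal := ⟨fun x hx g => by
  have hc : x ∈ Subgroup.center H := (Subgroup.zpowers_le.2 zH_central) hx
  rwa [Subgroup.mem_center_iff.1 hc g, mul_inv_cancel_right]⟩

theorem center_eq : Subgroup.center H = Subgroup.zpowers zH := by
  haveI := finite
  haveI := Fi22.finite
  haveI := normal_zpowers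
  let φ := toQuot (Subgroup.zpowers zH) (Subgroup.mem_zpowers zH)
  have hcard : Nat.card (H ⧸ Subgroup.zpowers zH) = Nat.card Cfsg.Spor.Fi22 := by
    have h := (Subgroup.zpowers zH).card_mul_index
    rw [card_zpowers, card_H, Subgroup.index_eq_card] at h
    rw [Fi22.natCard]
    omega
  have hbij : Function.Bijective φ :=
    (Nat.bijective_iff_surjective_and_card φ).2 ⟨toQuot_surjective _ _, hcard.symm⟩
  refine le_antisymm (fun c hc => ?_) (Subgroup.zpowers_le.2 zH_central)
  obtain ⟨y, hy⟩ := hbij.2 (QuotientGroup.mk' _ c)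
  have hyc : y ∈ Subgroup.center Cfsg.Spor.Fi22 := by
    rw [Subgroup.mem_center_iff]
    intro g
    apply hbij.1
    obtain ⟨g', hg'⟩ := QuotientGroup.mk'_surjective (Subgroup.zpowers zH) (φ g)
    rw [map_mul, map_mul, hy, ← hg', ← map_mul, ← map_mul, Subgroup.mem_center_iff.1 hc g']
  rw [center_Fi22, Subgroup.mem_bot] at hyc
  rw [hyc, map_one] at hy
  exact (QuotientGroup.eq_one_iff c).1 hy.symm

/-- The subgroup is a non-split double cover of Fi22. -/
theorem double_cover : Cfsg.IsNonsplitDoubleCover H Cfsg.Spor.Fi22 := by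
  haveI := finite
  haveI := Fi22.finite
  have hcard2 : Nat.card (Subgroup.center H) = 2 := by rw [center_eq, card_zpowers]
  refine ⟨hcard2, ?_, fun L hL => ?_⟩
  · haveI := normal_zpowers
    let φ := toQuot (Subgroup.zpowers zH) (Subgroup.mem_zpowers zH)
    have hcard : Nat.card (H ⧸ Subgroup.zpowers zH) = Nat.card Cfsg.Spor.Fi22 := by
      have h := (Subgroup.zpowers zH).card_mul_index
      rw [card_zpowers, card_H, Subgroup.index_eq_card] at h
      rw [Fi22.natCard]
      omega
    exact ⟨(QuotientGroup.quotientMulEquivOfEq center_eq).trans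
      (MulEquiv.ofBijective φ ((Nat.bijective_iff_surjective_and_card φ).2
        ⟨toQuot_surjective _ _, hcard.symm⟩)).symm⟩
  · have hidx : L.index = 2 := by rw [hL.index_eq_card, hcard2]
    haveI := Subgroup.normal_of_index_eq_two hidx
    let q : H →* H ⧸ L := QuotientGroup.mk' L
    have hsq : ∀ y : H ⧸ L, y * y = 1 := by
      intro y
      have h : orderOf y ∣ 2 := by
        rw [← hidx, Subgroup.index_eq_card]
        exact orderOf_dvd_natCard y
      rw [← pow_two]
      exact orderOf_dvd_iff_pow_eq_one.1 h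
    have adj : ∀ x y, coxLabel Fi22.edges x y = 3 → q (hgen x) = q (hgen y) := by
      intro x y h
      have e : (hgen x * hgen y) ^ 3 = 1 := Subtype.ext (by
        rw [← h, ← lift_label]
        simpa [hgen] using pgen_cox (extra := Fi23.extra) (mem_nodes (lift x)) (mem_nodes (lift y)))
      have e' := congrArg q e
      rw [map_one, map_pow, pow_succ, pow_two, hsq, one_mul, map_mul, mul_eq_one_iff_eq_inv,
        inv_eq_of_mul_eq_one_left (hsq _)] at e'
      exact e'
    have qb : q (hgen .b) = q (hgen .a) := (adj .a .b (by decide)).symm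
    have qc : q (hgen .c) = q (hgen .a) := (adj .c .b (by decide)).trans qb
    have qd : q (hgen .d) = q (hgen .a) := (adj .d .c (by decide)).trans qc
    have qe : q (hgen .e) = q (hgen .a) := (adj .e .d (by decide)).trans qd
    have qh : q (hgen .h) = q (hgen .a) := (adj .h .d (by decide)).trans qd
    have qf : q (hgen .f) = q (hgen .a) := (adj .f .e (by decide)).trans qe
    have qg : q (hgen .g) = q (hgen .a) := (adj .g .f (by decide)).trans qf
    have qi : q (hgen .i) = q (hgen .a) := (adj .i .h (by decide)).trans qh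
    have hw : ((List.replicate 9 [Fi22.Gen.a, .b, .c, .d, .e, .f, .h]).flatten.map hgen).prod = 1 :=
      Subtype.ext ((coe_word _).trans (gen_known _ (List.mem_append_right _ (by decide))))
    have ht : q (hgen .a) = 1 := by
      have e := congrArg q hw
      rw [map_one, map_list_prod, List.map_map] at e
      have hrep : ((List.replicate 9 [Fi22.Gen.a, .b, .c, .d, .e, .f, .h]).flatten.map
          (q ∘ hgen)).prod = q (hgen .a) ^ 63 := by
        simp [List.replicate_succ, qb, qc, qd, qe, qf, qh, pow_succ, mul_assoc]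
      rw [hrep, show (63 : ℕ) = 2 * 31 + 1 from rfl, pow_succ, pow_mul, pow_two, hsq, one_pow,
        one_mul] at e
      exact e
    have hall : Subgroup.closure (Set.range hgen) ≤ L := by
      rw [Subgroup.closure_le]
      rintro _ ⟨x, rfl⟩
      refine (QuotientGroup.eq_one_iff _).1 ?_
      cases x
      exacts [ht, qb.trans ht, qc.trans ht, qd.trans ht, qe.trans ht, qf.trans ht, qg.trans ht,
        qh.trans ht, qi.trans ht]
    rw [closure_hgen, top_le_iff] at hall
    rw [hall, Subgroup.index_top] at hidx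
    exact absurd hidx (by decide)

end CfsgLib.Spor.Fi23
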