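import Cfsg.Agent.Lib.Spor.Fi23.G0Data

/-!
Checking slots of the certificate.
-/

namespace CfsgLib.Spor.Fi23.G0

open CfsgLib.PresCert

theorem slots_32 : cert.okRange 16384 512 = true := by decide +kernel

theorem slots_33 : cert.okRange 16896 512 = true := by decide +kernel

theorem slots_34 : cert.okRange 17408 512 = true := by decide +kernel

theorem slots_35 : cert.okRange 17920 512 = true := by decide +kernel

theorem slots_36 : cert.okRange 18432 512 = true := by decide +kernel

theorem slots_37 : cert.okRange 18944 512 = true := by decide +kernel

theorem slots_38 : cert.okRange 19456 512 = true := by decide +kernel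

theorem slots_39 : cert.okRange 19968 512 = true := by decide +kernel


end CfsgLib.Spor.Fi23.G0
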