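import Cfsg.Agent.Lib.Spor.Fi23.G0Data

/-!
Checking slots of the certificate.
-/

namespace CfsgLib.Spor.Fi23.G0

open CfsgLib.PresCert

theorem slots_56 : cert.okRange 28672 512 = true := by decide +kernel

theorem slots_57 : cert.okRange 29184 512 = true := by decide +kernel

theorem slots_58 : cert.okRange 29696 512 = true := by decide +kernel

theorem slots_59 : cert.okRange 30208 512 = true := by decide +kernel

theorem slots_60 : cert.okRange 30720 512 = true := by decide +kernel

theorem slots_61 : cert.okRange 31232 439 = true := by decide +kernel


end CfsgLib.Spor.Fi23.G0
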