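import Cfsg.Agent.Lib.Spor.Fi23.H1Data

/-!
Checking slots of the certificate.
-/

namespace CfsgLib.Spor.Fi23.H1

open CfsgLib.PresCert

theorem slots_24 : cert.okRange 12288 512 = true := by decide +kernel

theorem slots_25 : cert.okRange 12800 512 = true := by decide +kernel

theorem slots_26 : cert.okRange 13312 512 = true := by decide +kernel

theorem slots_27 : cert.okRange 13824 256 = true := by decide +kernel


end CfsgLib.Spor.Fi23.H1
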