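import Cfsg.Agent.Lib.PresCert.Check

/-!
Coset table certificate (generated data).
-/

namespace CfsgLib.Spor.Fi23.H4

open CfsgLib.PresCert

noncomputable def tab : BTree := (.node (.node (.node (.leaf 0x10104000d000050010084000c8000500000000011000070000000000e800060000010000a000030010124000b8000400100c4000b000040010044000a800040000000000c0000500081440009800030000000000a00004000001000080000200100a40009000030010024000880003000810400078000200080e400070000200080c4000680002000000000080000300000100005800010010004000600002000808400050000100080640004800010008044000400001000802400038000100000000005800020000010000300000000008800028000000000680002000000000048000180000000002800010000000000080000800000000000000300001) (.leaf 0x10184003e8001a0010144003e0001a00100e4003d8001a0010064003d0001a00081a4003c000190000000003c8001a0000010003a000180010124003b8001900100c4003b000190010044003a80019000816400398001800081440039000180000000003a00019000001000378001700100a40038800180010024003800018000001000350001500101c400370001700101a4003680017000000000378001800101040036000160010084003580017000001000328001300101c400348001600101a4003400016001016400338001600000100036000170010084003300014000000000350001700080e400320001500080c400318001500080a4003100015)) (.node (.leaf 0x808400248000f000806400240000e0000000002700011000802400238000f000800400230000f000001000228000c000808400220000e000001000240000f000804400218000e000802400210000e000800400208000e000001000200000b00081a4001f8000d0008184001f0000d0000010001d8000a0010124001e8000d00000100025800100010044001e0000d0008104001d0000c00080e4001c8000b000000000250001000080a4001c0000c0000010001b8000a000000000228000f0008104001b0000b0000010001c8000c00080c4001a8000b00080a4001a0000b0000010001980009000000000200000e000816400190000a0008144001880009)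 (.leaf 0x0))) (.node (.node (.leaf 0x1d8000d00000100017800080000000001b8000c001002400180000a0008164001700009000001000188000a00081240016800090000010001580007000000000198000b0010024001600009000001000130000600101c400150000700101a4001480008000000000178000a001010400140000800100840013800080000010001100004000001000150000800101a400128000500000000015800090010104001200007001008400118000700000000013000080000010000e800040010184001080006001014400100000600100e4000f800060010064000f000060000010000c0000300101c4000e0000500000100012800070010164000d80005) (.leaf 0x81c4003f0001a0000010003c80019)) (.node (.leaf 0x1000300001300100040030800150000010002d8001200101c4002f8001400101a4002f000140010164002e800140010104002e00014000001000330001600000000032800160008144002d000130008124002c800130000010002b8001100000000030000150010024002c000120000000002d800140008144002b000120008124002a80012000001000298001000100a4002a000120000010002c0001300081a40029000110008184002880011000001000270000f0000000002b8001300100c4002800011001004400278001000081a40026800100008184002600010000001000250000c000000000298001200100c400258000d0000010002780011) (.leaf 0x0))))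

noncomputable def par : BTree := (.leaf 0x40001900000000003000180000000000200017000000000050001500000000005000130000000000100013000000000050001200000000002000110000000000200010000000000030000f000000000030000c000000000000000c000000000000000b000000000030000a000000000010000a000000000010000900000000002000080000000000200007000000000050000600000000005000040000000000400004000000000050000300000000003000030000000000200002000000000010000100000000000000000000000000000000)

noncomputable def fact : BTree := (.leaf 0x0)

/-- the certificate -/
noncomputable def cert : Cert where
  n := 27
  v := 0
  g := 6
  inv := [0, 1, 2, 3, 4, 5]
  rels := [[0, 1, 0, 1, 0, 1], [0, 2, 0, 2], [0, 3, 0, 3], [0, 4, 0, 4], [0, 5, 0, 5], [1, 2, 1, 2, 1, 2], [1, 3, 1, 3], [1, 4, 1, 4], [1, 5, 1, 5], [2, 3, 2, 3, 2, 3], [2, 4, 2, 4], [2, 5, 2, 5, 2, 5], [3, 4, 3, 4, 3, 4], [3, 5, 3, 5], [4, 5, 4, 5]]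
  subs := [[1], [2], [3], [4], [5]]
  tab := tab
  par := par
  fact := fact
  nfact := 0

/-- justifications -/
noncomputable def justs : List Cert.Just := []

end CfsgLib.Spor.Fi23.H4
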