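import Cfsg.Agent.Lib.PresCert.Check

/-!
Coset table certificate (generated data).
-/

namespace CfsgLib.Spor.Fi23.H5

open CfsgLib.PresCert

noncomputable def tab : BTree := (.node (.leaf 0xe000070010064000c800050000010000a000030010124000b800050010104000b0000500100c4000a800050000010000c800060000000000c0000600080440009800040008024000900004000800400088000400000100008000030000000000a0000500080a4000780003000808400070000300000100006800020000000000800004000810400060000200080e400058000200000100004800010000000000680003001002400050000200081240004000010000010000280000000000000048000200100a4000380001001004400030000100000680002000000000000000280001000004800018000000000280001000000000008000080000) (.leaf 0x8124001400009000001000120000800100e400138000900100a400130000900100440012800090008104001180008000000000120000900000100010000070010084001100008001002400108000800080c4000f8000700080a4000f0000700000000010000080000010000e000060010004000e800070000010000c000040010124000d800060010104000d00006))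

noncomputable def par : BTree := (.leaf 0x300008000000000020000700000000001000060000000000400004000000000040000300000000000000030000000000100002000000000020000100000000003000000000000000000000)

noncomputable def fact : BTree := (.leaf 0x0)

/-- the certificate -/
noncomputable def cert : Cert where
  n := 10
  v := 0
  g := 5
  inv := [0, 1, 2, 3, 4]
  rels := [[0, 1, 0, 1, 0, 1], [0, 2, 0, 2], [0, 3, 0, 3], [0, 4, 0, 4], [1, 2, 1, 2, 1, 2], [1, 3, 1, 3], [1, 4, 1, 4, 1, 4], [2, 3, 2, 3, 2, 3], [2, 4, 2, 4], [3, 4, 3, 4]]
  subs := [[0], [1], [2], [4]]
  tab := tab
  par := par
  fact := fact
  nfact := 0

/-- justifications -/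
noncomputable def justs : List Cert.Just := []

end CfsgLib.Spor.Fi23.H5
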