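import Cfsg.Agent.Lib.PresCert.Check

/-!
Coset table certificate (generated data).
-/

namespace CfsgLib.Spor.Fi23.H6

open CfsgLib.PresCert

noncomputable def tab : BTree := (.leaf 0x10000a8000600100a4000c000070010084000b800070010044000b000070000000000a800070008064000a000060000010000900005001000400098000600080a400088000500000100007800030000000000900006001002400080000400080a400070000400000100006000020010064000680004000001000080000500080440005800030000000000780005000800400050000300000100004800020008084000400002000000000060000400000100003800010000000000480003000001000020000000100a4000300001000000000038000200100440002800010000000000200001000004800018000000000280001000000000008000080000)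

noncomputable def par : BTree := (.leaf 0x3000060000000000100005000000000020000300000000002000020000000000000002000000000010000100000000003000000000000000000000)

noncomputable def fact : BTree := (.leaf 0x0)

/-- the certificate -/
noncomputable def cert : Cert where
  n := 8
  v := 0
  g := 4
  inv := [0, 1, 2, 3]
  rels := [[0, 1, 0, 1, 0, 1], [0, 2, 0, 2], [0, 3, 0, 3], [1, 2, 1, 2, 1, 2], [1, 3, 1, 3, 1, 3], [2, 3, 2, 3]]
  subs := [[0], [1], [2]]
  tab := tab
  par := par
  fact := fact
  nfact := 0

/-- justifications -/
noncomputable def justs : List Cert.Just := []

end CfsgLib.Spor.Fi23.H6
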