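import Cfsg.Agent.Lib.PresCert.Check

/-!
Coset table certificate (generated data).
-/

namespace CfsgLib.Spor.Fi23.H7

open CfsgLib.PresCert

noncomputable def tab : BTree := (.leaf 0x802400048000300080040004000030000010000380002000804400030000200000100002800010000000000380003000001000018000000000000002800020010024000200001000000000018000100000280001000000000008000080000)

noncomputable def par : BTree := (.leaf 0x2000000000010000100000000002000000000000000000000)

noncomputable def fact : BTree := (.leaf 0x0)

/-- the certificate -/
noncomputable def cert : Cert where
  n := 4
  v := 0
  g := 3
  inv := [0, 1, 2]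
  rels := [[0, 1, 0, 1, 0, 1], [0, 2, 0, 2], [1, 2, 1, 2, 1, 2]]
  subs := [[0], [1]]
  tab := tab
  par := par
  fact := fact
  nfact := 0

/-- justifications -/
noncomputable def justs : List Cert.Just := []

end CfsgLib.Spor.Fi23.H7
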