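import Cfsg.Agent.Lib.Spor.Fi23.PermData
import Cfsg.Agent.Lib.PresCert.WidePower

/-!
Kernel checks on 31671 points.
-/

namespace CfsgLib.Spor.Fi23.Perm

open CfsgLib.PresCert

theorem inv0_0 : allBin data.n (data.invAt 0) 15 0 = true := by decide +kernel

theorem inv1_0 : allBin data.n (data.invAt 1) 15 0 = true := by decide +kernel

theorem inv2_0 : allBin data.n (data.invAt 2) 15 0 = true := by decide +kernel

theorem inv3_0 : allBin data.n (data.invAt 3) 15 0 = true := by decide +kernel

theorem inv4_0 : allBin data.n (data.invAt 4) 15 0 = true := by decide +kernel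

theorem inv5_0 : allBin data.n (data.invAt 5) 15 0 = true := by decide +kernel

end CfsgLib.Spor.Fi23.Perm
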