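import Cfsg.Agent.Lib.Spor.Fi23.PermData
import Cfsg.Agent.Lib.PresCert.WidePower

/-!
Kernel checks on 31671 points.
-/

namespace CfsgLib.Spor.Fi23.Perm

open CfsgLib.PresCert

theorem rel44_0 : allBin data.n (data.idAt [4, 9, 4, 9]) 15 0 = true := by decide +kernel

theorem rel45_0 : allBin data.n (data.idAt [5, 6, 5, 6, 5, 6]) 14 0 = true := by decide +kernel

theorem rel45_1 : allBin data.n (data.idAt [5, 6, 5, 6, 5, 6]) 14 16384 = true := by decide +kernel

theorem rel46_0 : allBin data.n (data.idAt [5, 7, 5, 7]) 15 0 = true := by decide +kernel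

end CfsgLib.Spor.Fi23.Perm
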