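import Cfsg.Agent.Lib.Spor.Fi23.PermData
import Cfsg.Agent.Lib.PresCert.WidePower

/-!
Kernel checks on 31671 points.
-/

namespace CfsgLib.Spor.Fi23.Perm

open CfsgLib.PresCert

theorem wd10_7 : allBin data.n (data.wordAt 10 [7, 6, 5, 4, 3, 2, 1, 0, 8, 3, 2, 4, 3, 5, 8, 9, 8, 3, 2, 1, 4, 3, 5, 4, 8, 3, 2, 1, 2, 3, 4, 5, 1, 2, 3, 4, 0, 1, 2, 3, 8, 9, 3, 4, 2, 3, 8, 1, 2, 3, 4, 5, 6, 7]) 11 14336 = true := by decide +kernel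

theorem wd10_8 : allBin data.n (data.wordAt 10 [7, 6, 5, 4, 3, 2, 1, 0, 8, 3, 2, 4, 3, 5, 8, 9, 8, 3, 2, 1, 4, 3, 5, 4, 8, 3, 2, 1, 2, 3, 4, 5, 1, 2, 3, 4, 0, 1, 2, 3, 8, 9, 3, 4, 2, 3, 8, 1, 2, 3, 4, 5, 6, 7]) 11 16384 = true := by decide +kernel

theorem wd10_9 : allBin data.n (data.wordAt 10 [7, 6, 5, 4, 3, 2, 1, 0, 8, 3, 2, 4, 3, 5, 8, 9, 8, 3, 2, 1, 4, 3, 5, 4, 8, 3, 2, 1, 2, 3, 4, 5, 1, 2, 3, 4, 0, 1, 2, 3, 8, 9, 3, 4, 2, 3, 8, 1, 2, 3, 4, 5, 6, 7]) 11 18432 = true := by decide +kernel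

theorem wd10_10 : allBin data.n (data.wordAt 10 [7, 6, 5, 4, 3, 2, 1, 0, 8, 3, 2, 4, 3, 5, 8, 9, 8, 3, 2, 1, 4, 3, 5, 4, 8, 3, 2, 1, 2, 3, 4, 5, 1, 2, 3, 4, 0, 1, 2, 3, 8, 9, 3, 4, 2, 3, 8, 1, 2, 3, 4, 5, 6, 7]) 11 20480 = true := by decide +kernel

theorem wd10_11 : allBin data.n (data.wordAt 10 [7, 6, 5, 4, 3, 2, 1, 0, 8, 3, 2, 4, 3, 5, 8, 9, 8, 3, 2, 1, 4, 3, 5, 4, 8, 3, 2, 1, 2, 3, 4, 5, 1, 2, 3, 4, 0, 1, 2, 3, 8, 9, 3, 4, 2, 3, 8, 1, 2, 3, 4, 5, 6, 7]) 11 22528 = true := by decide +kernel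

end CfsgLib.Spor.Fi23.Perm
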