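import Cfsg.Agent.Lib.Spor.Fi23.PermData
import Cfsg.Agent.Lib.PresCert.WidePower

/-!
Kernel checks on 31671 points.
-/

namespace CfsgLib.Spor.Fi23.Perm

open CfsgLib.PresCert

theorem wd12_0 : allBin data.n (data.wordAt 12 [5, 11, 1, 2, 11, 9, 11, 3, 8, 9, 11, 10, 5]) 13 0 = true := by decide +kernel

theorem wd12_1 : allBin data.n (data.wordAt 12 [5, 11, 1, 2, 11, 9, 11, 3, 8, 9, 11, 10, 5]) 13 8192 = true := by decide +kernel

theorem wd12_2 : allBin data.n (data.wordAt 12 [5, 11, 1, 2, 11, 9, 11, 3, 8, 9, 11, 10, 5]) 13 16384 = true := by decide +kernel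

theorem wd12_3 : allBin data.n (data.wordAt 12 [5, 11, 1, 2, 11, 9, 11, 3, 8, 9, 11, 10, 5]) 13 24576 = true := by decide +kernel

theorem wd13_0 : allBin data.n (data.wordAt 13 [12, 0, 4, 3, 10, 0, 12]) 14 0 = true := by decide +kernel

end CfsgLib.Spor.Fi23.Perm
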