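import Cfsg.Agent.Lib.Spor.Fi23.PermData
import Cfsg.Agent.Lib.PresCert.WidePower

/-!
Kernel checks on 31671 points.
-/

namespace CfsgLib.Spor.Fi23.Perm

open CfsgLib.PresCert

theorem wd13_1 : allBin data.n (data.wordAt 13 [12, 0, 4, 3, 10, 0, 12]) 14 16384 = true := by decide +kernel

theorem wd14_0 : allBin data.n (data.wordAt 14 [11, 3, 4, 3]) 15 0 = true := by decide +kernel

theorem wd15_0 : allBin data.n (data.wordAt 15 [14, 4, 10, 14]) 15 0 = true := by decide +kernel

theorem wd16_0 : allBin data.n (data.wordAt 16 [15, 8, 10]) 15 0 = true := by decide +kernel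

end CfsgLib.Spor.Fi23.Perm
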