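import Cfsg.Agent.Lib.Spor.Fi23.PermData
import Cfsg.Agent.Lib.PresCert.WidePower
import Cfsg.Agent.Lib.Spor.Fi23.PermSeventeenData

/-!
Kernel checks on 31671 points.
-/

namespace CfsgLib.Spor.Fi23.Perm

open CfsgLib.PresCert

theorem sevU_0 : allBin data.n (fun i => Nat.beq (data.app [7, 0, 2, 6, 5, 1, 4, 8, 3] i) (sevenData.img 0 i)) 14 0 = true := by decide +kernel

theorem sevU_1 : allBin data.n (fun i => Nat.beq (data.app [7, 0, 2, 6, 5, 1, 4, 8, 3] i) (sevenData.img 0 i)) 14 16384 = true := by decide +kernel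

theorem sevV_0 : allBin data.n (fun i => Nat.beq (data.app [0, 1, 7, 0, 2, 6, 5, 1, 4, 8, 3] i) (sevenData.img 1 i)) 14 0 = true := by decide +kernel

end CfsgLib.Spor.Fi23.Perm
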