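import Cfsg.Agent.Lib.Spor.Fi23.PermData
import Cfsg.Agent.Lib.PresCert.WidePower
import Cfsg.Agent.Lib.Spor.Fi23.PermSeventeenData

/-!
Kernel checks on 31671 points.
-/

namespace CfsgLib.Spor.Fi23.Perm

open CfsgLib.PresCert

theorem sevPow0_2 : allBin data.n (fun i => Nat.beq (sevenData.app [0, 0, 0, 0, 0, 0, 0, 0, 0, 0, 0, 0, 0, 0, 0, 0, 0] i) i) 13 16384 = true := by decide +kernel

theorem sevPow0_3 : allBin data.n (fun i => Nat.beq (sevenData.app [0, 0, 0, 0, 0, 0, 0, 0, 0, 0, 0, 0, 0, 0, 0, 0, 0] i) i) 13 24576 = true := by decide +kernel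

theorem sevPow1_0 : allBin data.n (fun i => Nat.beq (sevenData.app [1, 1, 1, 1, 1, 1, 1, 1, 1, 1, 1, 1, 1, 1, 1, 1, 1] i) i) 13 0 = true := by decide +kernel

theorem sevPow1_1 : allBin data.n (fun i => Nat.beq (sevenData.app [1, 1, 1, 1, 1, 1, 1, 1, 1, 1, 1, 1, 1, 1, 1, 1, 1] i) i) 13 8192 = true := by decide +kernel

end CfsgLib.Spor.Fi23.Perm
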