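import Cfsg.Agent.Lib.PresCert.Perm

/-!
An orbit (generated data).
-/

namespace CfsgLib.Spor.Fi23.Perm

open CfsgLib.PresCert

noncomputable def lev4Orb : BTree := (.leaf 0x700051f430000000400051f400000000600031f3f000000040003197b0000000600021f41000000040002197d000000060001197a000000040001148b0000000100011488000000060000148a00000002000010240000000000000c51)

noncomputable def lev4Pos : BTree := (.node (.node (.node (.leaf 0x0) (.node (.node (.node (.leaf 0x0) (.node (.node (.leaf 0x0) (.node (.node (.leaf 0x400000000000000020000000000000000000000000000000300000000000000000000000000000000000000000000000000000000000000000000000000000000000000000000000000000000000000000000000000000000) (.leaf 0x0)) (.leaf 0x0))) (.leaf 0x0))) (.leaf 0x0)) (.leaf 0x0))) (.node (.node (.leaf 0x0) (.node (.leaf 0x0) (.node (.leaf 0x0) (.node (.leaf 0x0) (.node (.leaf 0x0) (.node (.node (.leaf 0xb00000000000000000000000000000007000000000000000a) (.leaf 0x0)) (.leaf 0x0))))))) (.leaf 0x0))) (.node (.node (.node (.node (.node (.node (.node (.leaf 0x0) (.node (.node (.leaf 0x10000000000000000000000000000000000000000000000000000000000000000) (.leaf 0x0)) (.leaf 0x0))) (.leaf 0x0)) (.leaf 0x0)) (.leaf 0x0)) (.node (.leaf 0x0) (.node (.leaf 0x0) (.node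 (.leaf 0x0) (.node (.leaf 0x0) (.node (.node (.leaf 0x90000000000000000000000000000000000000000000000000000000000000000000000000000000000000000000000000000000000000000000000000000000000000000000000000000000000000000000000000000000000000000000000000000000000000000000000000000000000000000000000000000000000000000000000000000000000000000000000000000000000000000000000000000000000000000000000000000000000000000000000000000000000000000000000000000000000000000000000000000000000000000000000000000000000000000000000000000000000000000000000000000000000000000) (.leaf 0x0)) (.leaf 0x0))))))) (.leaf 0x0)) (.node (.node (.leaf 0x0) (.node (.node (.node (.leaf 0x0) (.node (.leaf 0x0) (.node (.node (.leaf 0x600000000000000000000000000000008000000000000000500000000000000000000000000000000000000000000000000000000000000000000000000000000000000000000000000000000000000000000000000000000000000000000000000000000000000000000000000000000000000000000000000000000000000000000000000000000000000000000000000000000000000000000000000000000000000000000000000000000000000000000000000000000000000000000000000000000000000000000000000000000000000000000000000000000000000000000000000000000) (.leaf 0x0)) (.leaf 0x0)))) (.leaf 0x0)) (.leaf 0x0))) (.leaf 0x0))))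

/-- an orbit -/
noncomputable def lev4 : Level where
  base := 3153
  gens := [0, 2, 3, 4, 8, 10, 11, 13]
  len := 12
  orb := lev4Orb
  pos := lev4Pos

end CfsgLib.Spor.Fi23.Perm
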