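import Cfsg.Agent.Lib.PresCert.Perm

/-!
An orbit (generated data).
-/

namespace CfsgLib.Spor.Fi23.Perm

open CfsgLib.PresCert

noncomputable def lev5Orb : BTree := (.leaf 0x40003084400000000000301cf00000004000206080000000000020124000000050001025100000005000000c800000000000000150000000000000011)

noncomputable def lev5Pos : BTree := (.node (.node (.node (.node (.node (.node (.node (.node (.node (.node (.leaf 0x1000000000000000000000000000000000000000000000000000000000000000000000000000000000000000000000000000000000000000000000000000000000000000000000000000000000000000000000000000000000000000000000000000000000000000000000000000000000000000000000000000000000000000000000000000000000000000000000000000000000000000000000000000000000000000000000000) (.leaf 0x0)) (.leaf 0x0)) (.leaf 0x0)) (.leaf 0x0)) (.leaf 0x0)) (.node (.leaf 0x0) (.node (.node (.node (.node (.leaf 0x500000000000000000000000000000000000000000000000000000000000000000000000000000000000000000000000000000000000000000000000000000000) (.leaf 0x0)) (.leaf 0x0)) (.leaf 0x0)) (.leaf 0x0)))) (.leaf 0x0)) (.leaf 0x0)) (.node (.node (.node (.node (.node (.leaf 0x0) (.node (.node (.node (.leaf 0x70000000000000000000000000000000000000000000000000000000000000000)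 (.leaf 0x0)) (.leaf 0x0)) (.leaf 0x0))) (.leaf 0x0)) (.node (.node (.node (.node (.node (.leaf 0x300000000000000000000000000000000000000000000000000000000000000000000000000000000000000000000000000000000000000000000000000000000000000000000000000000000000000000000000000000000000000000000000000000000000000000000000000000000000000000000000000000000000000000000000000000000) (.leaf 0x0)) (.leaf 0x0)) (.leaf 0x0)) (.leaf 0x0)) (.leaf 0x0))) (.leaf 0x0)) (.node (.node (.node (.node (.node (.node (.node (.leaf 0x200000000000000000000000000000000000000000000000000000000000000000000000000000000000000000000000000000000000000000000000000000000) (.leaf 0x0)) (.leaf 0x0)) (.leaf 0x0)) (.leaf 0x0)) (.leaf 0x0)) (.leaf 0x0)) (.node (.node (.node (.node (.node (.node (.leaf 0x6000000000000000000000000000000000000000000000000000000000000000000000000000000000000000000000000000000000000000000000000000000000000000000000000000000000000000000000000000000000000000000000000000000000000000000000000000000000000000000000000) (.leaf 0x0)) (.leaf 0x0)) (.leaf 0x0)) (.leaf 0x0)) (.leaf 0x0)) (.leaf 0x0))))) (.node (.node (.node (.leaf 0x0) (.node (.node (.node (.node (.node (.node (.leaf 0x40000000000000000000000000000000000000000000000000000000000000000)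 (.leaf 0x0)) (.leaf 0x0)) (.leaf 0x0)) (.leaf 0x0)) (.leaf 0x0)) (.leaf 0x0))) (.leaf 0x0)) (.leaf 0x0)))

/-- an orbit -/
noncomputable def lev5 : Level where
  base := 17
  gens := [0, 2, 4, 8, 10, 14]
  len := 8
  orb := lev5Orb
  pos := lev5Pos

end CfsgLib.Spor.Fi23.Perm
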