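import Cfsg.Agent.Lib.PresCert.Perm

/-!
An orbit (generated data).
-/

namespace CfsgLib.Spor.Fi23.Perm

open CfsgLib.PresCert

noncomputable def lev6Orb : BTree := (.leaf 0x40000060800000003000000c80000000000000015)

noncomputable def lev6Pos : BTree := (.node (.node (.node (.node (.node (.leaf 0x0) (.node (.leaf 0x0) (.node (.node (.node (.node (.leaf 0x200000000000000000000000000000000000000000000000000000000000000000000000000000000000000000000000000000000000000000000000000000000) (.leaf 0x0)) (.leaf 0x0)) (.leaf 0x0)) (.leaf 0x0)))) (.leaf 0x0)) (.leaf 0x0)) (.node (.leaf 0x0) (.node (.node (.node (.node (.node (.node (.node (.leaf 0x100000000000000000000000000000000000000000000000000000000000000000000000000000000000000000000000000000000000000000000000000000000) (.leaf 0x0)) (.leaf 0x0)) (.leaf 0x0)) (.leaf 0x0)) (.leaf 0x0)) (.leaf 0x0)) (.leaf 0x0)))) (.leaf 0x0))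

/-- an orbit -/
noncomputable def lev6 : Level where
  base := 21
  gens := [2, 4, 8, 10, 15]
  len := 3
  orb := lev6Orb
  pos := lev6Pos

end CfsgLib.Spor.Fi23.Perm
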