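import Cfsg.Agent.Lib.PresCert.Perm

/-!
An orbit (generated data).
-/

namespace CfsgLib.Spor.Fi23.Perm

open CfsgLib.PresCert

noncomputable def lev7Orb : BTree := (.leaf 0x20000000c0000000000000008)

noncomputable def lev7Pos : BTree := (.node (.node (.node (.node (.node (.node (.node (.node (.node (.node (.leaf 0x1000000000000000000000000000000000000000000000000000000000000000000000000000000000000000000000000000000000000000000000000000000000000000000000000000000000000000000000000000000000000000000000000) (.leaf 0x0)) (.leaf 0x0)) (.leaf 0x0)) (.leaf 0x0)) (.leaf 0x0)) (.leaf 0x0)) (.leaf 0x0)) (.leaf 0x0)) (.leaf 0x0)) (.leaf 0x0))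

/-- an orbit -/
noncomputable def lev7 : Level where
  base := 8
  gens := [2, 4, 8, 16]
  len := 2
  orb := lev7Orb
  pos := lev7Pos

end CfsgLib.Spor.Fi23.Perm
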