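import Cfsg.Agent.Lib.Spor.Fi23.PermLev0
import Cfsg.Agent.Lib.Spor.Fi23.PermLev1
import Cfsg.Agent.Lib.Spor.Fi23.PermLev2
import Cfsg.Agent.Lib.Spor.Fi23.PermLev3
import Cfsg.Agent.Lib.Spor.Fi23.PermLev4
import Cfsg.Agent.Lib.Spor.Fi23.PermLev5
import Cfsg.Agent.Lib.Spor.Fi23.PermLev6
import Cfsg.Agent.Lib.Spor.Fi23.PermLev7
import Cfsg.Agent.Lib.Spor.Fi23.PermLev8
import Cfsg.Agent.Lib.Spor.Fi23.PermLev9
import Cfsg.Agent.Lib.Spor.Fi23.PermSub0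
import Cfsg.Agent.Lib.Spor.Fi23.PermSub1

/-!
Orbits along the base.
-/

namespace CfsgLib.Spor.Fi23.Perm

open CfsgLib.PresCert

/-- the levels -/
noncomputable def levels : List Level := [lev0, lev1, lev2, lev3, lev4, lev5, lev6, lev7, lev8, lev9]

end CfsgLib.Spor.Fi23.Perm
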