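import Cfsg.Agent.Lib.Spor.Fi23.PermData
import Cfsg.Agent.Lib.PresCert.WidePower
import Cfsg.Agent.Lib.Spor.Fi23.PermSeventeenData
import Cfsg.Agent.Lib.Spor.Fi23.PermLevelsData
import Cfsg.Agent.Lib.Spor.Fi23.PermSub0
import Cfsg.Agent.Lib.Spor.Fi23.PermSub1

/-!
Kernel checks on 31671 points.
-/

namespace CfsgLib.Spor.Fi23.Perm

open CfsgLib.PresCert

theorem lev4_orbit : data.okOrbit lev4 = true := by decide +kernel

theorem lev5_orbit : data.okOrbit lev5 = true := by decide +kernel

theorem lev6_orbit : data.okOrbit lev6 = true := by decide +kernel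

theorem lev7_orbit : data.okOrbit lev7 = true := by decide +kernel

theorem lev8_orbit : data.okOrbit lev8 = true := by decide +kernel

theorem lev9_orbit : data.okOrbit lev9 = true := by decide +kernel

end CfsgLib.Spor.Fi23.Perm
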