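import Cfsg.Agent.Lib.Spor.Fi23.PermData
import Cfsg.Agent.Lib.PresCert.WidePower

/-!
Kernel checks on 31671 points.
-/

namespace CfsgLib.Spor.Fi23.Perm

open CfsgLib.PresCert

theorem rel8_0 : allBin data.n (data.idAt [8, 8]) 15 0 = true := by decide +kernel

theorem rel9_0 : allBin data.n (data.idAt [9, 9]) 15 0 = true := by decide +kernel

theorem rel10_0 : allBin data.n (data.idAt [0, 1, 0, 1, 0, 1]) 14 0 = true := by decide +kernel

theorem rel10_1 : allBin data.n (data.idAt [0, 1, 0, 1, 0, 1]) 14 16384 = true := by decide +kernel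

theorem rel11_0 : allBin data.n (data.idAt [0, 2, 0, 2]) 15 0 = true := by decide +kernel

end CfsgLib.Spor.Fi23.Perm
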