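import Cfsg.Agent.Lib.Spor.Fi23.PermData
import Cfsg.Agent.Lib.PresCert.WidePower
import Cfsg.Agent.Lib.Spor.Fi23.PermLevelsData
import Cfsg.Agent.Lib.Spor.Fi23.PermSub0
import Cfsg.Agent.Lib.Spor.Fi23.PermSub1

/-!
Kernel checks on 31671 points.
-/

namespace CfsgLib.Spor.Fi23.Perm

open CfsgLib.PresCert

theorem sub0_orbit : data.okOrbit sub0 = true := by decide +kernel

theorem sub1_orbit : data.okOrbit sub1 = true := by decide +kernel

theorem sub0_cl0_0 : allBin sub0.len (data.closedAt sub0 0) 15 0 = true := by decide +kernel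

end CfsgLib.Spor.Fi23.Perm
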