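import Cfsg.Agent.Lib.Spor.Fi23.PermData
import Cfsg.Agent.Lib.PresCert.WidePower
import Cfsg.Agent.Lib.Spor.Fi23.PermLevelsData
import Cfsg.Agent.Lib.Spor.Fi23.PermSub0
import Cfsg.Agent.Lib.Spor.Fi23.PermSub1

/-!
Kernel checks on 31671 points.
-/

namespace CfsgLib.Spor.Fi23.Perm

open CfsgLib.PresCert

theorem sub1_cl4_0 : allBin sub1.len (data.closedAt sub1 4) 12 0 = true := by decide +kernel

theorem sub1_cl5_0 : allBin sub1.len (data.closedAt sub1 5) 12 0 = true := by decide +kernel

theorem sub1_cl6_0 : allBin sub1.len (data.closedAt sub1 6) 12 0 = true := by decide +kernel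

theorem sub1_cl8_0 : allBin sub1.len (data.closedAt sub1 8) 12 0 = true := by decide +kernel

theorem sub1_cl9_0 : allBin sub1.len (data.closedAt sub1 9) 12 0 = true := by decide +kernel

end CfsgLib.Spor.Fi23.Perm
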