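import Cfsg.Agent.Lib.Spor.Fi23.PermData
import Cfsg.Agent.Lib.PresCert.WidePower

/-!
Kernel checks on 31671 points.
-/

namespace CfsgLib.Spor.Fi23.Perm

open CfsgLib.PresCert

theorem rel15_0 : allBin data.n (data.idAt [0, 6, 0, 6]) 15 0 = true := by decide +kernel

theorem rel16_0 : allBin data.n (data.idAt [0, 7, 0, 7]) 15 0 = true := by decide +kernel

theorem rel17_0 : allBin data.n (data.idAt [0, 8, 0, 8]) 15 0 = true := by decide +kernel

end CfsgLib.Spor.Fi23.Perm
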