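import Cfsg.Agent.Lib.Spor.Fi23.PermData
import Cfsg.Agent.Lib.PresCert.WidePower

/-!
Kernel checks on 31671 points.
-/

namespace CfsgLib.Spor.Fi23.Perm

open CfsgLib.PresCert

theorem rel21_0 : allBin data.n (data.idAt [1, 4, 1, 4]) 15 0 = true := by decide +kernel

theorem rel22_0 : allBin data.n (data.idAt [1, 5, 1, 5]) 15 0 = true := by decide +kernel

theorem rel23_0 : allBin data.n (data.idAt [1, 6, 1, 6]) 15 0 = true := by decide +kernel

end CfsgLib.Spor.Fi23.Perm
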