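import Mathlib.Tactic.IntervalCases
import Cfsg.Agent.Lib.Spor.Fi23.PermChk0
import Cfsg.Agent.Lib.Spor.Fi23.PermChk1
import Cfsg.Agent.Lib.Spor.Fi23.PermChk2
import Cfsg.Agent.Lib.Spor.Fi23.PermChk3
import Cfsg.Agent.Lib.Spor.Fi23.PermChk4
import Cfsg.Agent.Lib.Spor.Fi23.PermChk5
import Cfsg.Agent.Lib.Spor.Fi23.PermChk6
import Cfsg.Agent.Lib.Spor.Fi23.PermChk7
import Cfsg.Agent.Lib.Spor.Fi23.PermChk8
import Cfsg.Agent.Lib.Spor.Fi23.PermChk9
import Cfsg.Agent.Lib.Spor.Fi23.PermChk10
import Cfsg.Agent.Lib.Spor.Fi23.PermChk11
import Cfsg.Agent.Lib.Spor.Fi23.PermChk12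
import Cfsg.Agent.Lib.Spor.Fi23.PermChk13
import Cfsg.Agent.Lib.Spor.Fi23.PermChk14
import Cfsg.Agent.Lib.Spor.Fi23.PermChk15
import Cfsg.Agent.Lib.Spor.Fi23.PermChk16
import Cfsg.Agent.Lib.Spor.Fi23.PermChk17
import Cfsg.Agent.Lib.Spor.Fi23.PermChk18
import Cfsg.Agent.Lib.Spor.Fi23.PermChk19
import Cfsg.Agent.Lib.Spor.Fi23.PermChk20
import Cfsg.Agent.Lib.Spor.Fi23.PermChk21
import Cfsg.Agent.Lib.Spor.Fi23.PermChk22
import Cfsg.Agent.Lib.Spor.Fi23.PermChk23
import Cfsg.Agent.Lib.Spor.Fi23.PermChk24
import Cfsg.Agent.Lib.Spor.Fi23.PermChk25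
import Cfsg.Agent.Lib.Spor.Fi23.PermChk26
import Cfsg.Agent.Lib.Spor.Fi23.PermChk27
import Cfsg.Agent.Lib.Spor.Fi23.PermChk28
import Cfsg.Agent.Lib.Spor.Fi23.PermChk29
import Cfsg.Agent.Lib.Spor.Fi23.PermChk30
import Cfsg.Agent.Lib.Spor.Fi23.PermChk31
import Cfsg.Agent.Lib.Spor.Fi23.PermChk32
import Cfsg.Agent.Lib.Spor.Fi23.PermChk29b
import Cfsg.Agent.Lib.Spor.Fi23.PermChk30b
import Cfsg.Agent.Lib.Spor.Fi23.PermChk31b

/-!
The checks assembled.
-/

namespace CfsgLib.Spor.Fi23.Perm

open CfsgLib.PresCert

theorem inv0 : allBelow data.n (data.invAt 0) = true :=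
  Wide.PermData.allBelow_of_chunks (m := 1) (d := 15) (by decide +kernel) (by decide +kernel)
    fun j hj => by
      interval_cases j
      exacts [inv0_0]

theorem inv1 : allBelow data.n (data.invAt 1) = true :=
  Wide.PermData.allBelow_of_chunks (m := 1) (d := 15) (by decide +kernel) (by decide +kernel)
    fun j hj => by
      interval_cases j
      exacts [inv1_0]

theorem inv2 : allBelow data.n (data.invAt 2) = true :=
  Wide.PermData.allBelow_of_chunks (m := 1) (d := 15) (by decide +kernel) (by decide +kernel)
    fun j hj => by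
      interval_cases j
      exacts [inv2_0]

theorem inv3 : allBelow data.n (data.invAt 3) = true :=
  Wide.PermData.allBelow_of_chunks (m := 1) (d := 15) (by decide +kernel) (by decide +kernel)
    fun j hj => by
      interval_cases j
      exacts [inv3_0]

theorem inv4 : allBelow data.n (data.invAt 4) = true :=
  Wide.PermData.allBelow_of_chunks (m := 1) (d := 15) (by decide +kernel) (by decide +kernel)
    fun j hj => by
      interval_cases j
      exacts [inv4_0]

theorem inv5 : allBelow data.n (data.invAt 5) = true :=
  Wide.PermData.allBelow_of_chunks (m := 1) (d := 15) (by decide +kernel) (by decide +kernel)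
    fun j hj => by
      interval_cases j
      exacts [inv5_0]

theorem inv6 : allBelow data.n (data.invAt 6) = true :=
  Wide.PermData.allBelow_of_chunks (m := 1) (d := 15) (by decide +kernel) (by decide +kernel)
    fun j hj => by
      interval_cases j
      exacts [inv6_0]

theorem inv7 : allBelow data.n (data.invAt 7) = true :=
  Wide.PermData.allBelow_of_chunks (m := 1) (d := 15) (by decide +kernel) (by decide +kernel)
    fun j hj => by
      interval_cases j
      exacts [inv7_0]

theorem inv8 : allBelow data.n (data.invAt 8) = true :=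
  Wide.PermData.allBelow_of_chunks (m := 1) (d := 15) (by decide +kernel) (by decide +kernel)
    fun j hj => by
      interval_cases j
      exacts [inv8_0]

theorem inv9 : allBelow data.n (data.invAt 9) = true :=
  Wide.PermData.allBelow_of_chunks (m := 1) (d := 15) (by decide +kernel) (by decide +kernel)
    fun j hj => by
      interval_cases j
      exacts [inv9_0]

theorem rel0 : allBelow data.n (data.idAt [0, 0]) = true :=
  Wide.PermData.allBelow_of_chunks (m := 1) (d := 15) (by decide +kernel) (by decide +kernel)
    fun j hj => by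
      interval_cases j
      exacts [rel0_0]

theorem rel1 : allBelow data.n (data.idAt [1, 1]) = true :=
  Wide.PermData.allBelow_of_chunks (m := 1) (d := 15) (by decide +kernel) (by decide +kernel)
    fun j hj => by
      interval_cases j
      exacts [rel1_0]

theorem rel2 : allBelow data.n (data.idAt [2, 2]) = true :=
  Wide.PermData.allBelow_of_chunks (m := 1) (d := 15) (by decide +kernel) (by decide +kernel)
    fun j hj => by
      interval_cases j
      exacts [rel2_0]

theorem rel3 : allBelow data.n (data.idAt [3, 3]) = true :=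
  Wide.PermData.allBelow_of_chunks (m := 1) (d := 15) (by decide +kernel) (by decide +kernel)
    fun j hj => by
      interval_cases j
      exacts [rel3_0]

theorem rel4 : allBelow data.n (data.idAt [4, 4]) = true :=
  Wide.PermData.allBelow_of_chunks (m := 1) (d := 15) (by decide +kernel) (by decide +kernel)
    fun j hj => by
      interval_cases j
      exacts [rel4_0]

theorem rel5 : allBelow data.n (data.idAt [5, 5]) = true :=
  Wide.PermData.allBelow_of_chunks (m := 1) (d := 15) (by decide +kernel) (by decide +kernel)
    fun j hj => by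
      interval_cases j
      exacts [rel5_0]

theorem rel6 : allBelow data.n (data.idAt [6, 6]) = true :=
  Wide.PermData.allBelow_of_chunks (m := 1) (d := 15) (by decide +kernel) (by decide +kernel)
    fun j hj => by
      interval_cases j
      exacts [rel6_0]

theorem rel7 : allBelow data.n (data.idAt [7, 7]) = true :=
  Wide.PermData.allBelow_of_chunks (m := 1) (d := 15) (by decide +kernel) (by decide +kernel)
    fun j hj => by
      interval_cases j
      exacts [rel7_0]

theorem rel8 : allBelow data.n (data.idAt [8, 8]) = true :=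
  Wide.PermData.allBelow_of_chunks (m := 1) (d := 15) (by decide +kernel) (by decide +kernel)
    fun j hj => by
      interval_cases j
      exacts [rel8_0]

theorem rel9 : allBelow data.n (data.idAt [9, 9]) = true :=
  Wide.PermData.allBelow_of_chunks (m := 1) (d := 15) (by decide +kernel) (by decide +kernel)
    fun j hj => by
      interval_cases j
      exacts [rel9_0]

theorem rel10 : allBelow data.n (data.idAt [0, 1, 0, 1, 0, 1]) = true :=
  Wide.PermData.allBelow_of_chunks (m := 2) (d := 14) (by decide +kernel) (by decide +kernel)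
    fun j hj => by
      interval_cases j
      exacts [rel10_0, rel10_1]

theorem rel11 : allBelow data.n (data.idAt [0, 2, 0, 2]) = true :=
  Wide.PermData.allBelow_of_chunks (m := 1) (d := 15) (by decide +kernel) (by decide +kernel)
    fun j hj => by
      interval_cases j
      exacts [rel11_0]

theorem rel12 : allBelow data.n (data.idAt [0, 3, 0, 3]) = true :=
  Wide.PermData.allBelow_of_chunks (m := 1) (d := 15) (by decide +kernel) (by decide +kernel)
    fun j hj => by
      interval_cases j
      exacts [rel12_0]

theorem rel13 : allBelow data.n (data.idAt [0, 4, 0, 4]) = true :=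
  Wide.PermData.allBelow_of_chunks (m := 1) (d := 15) (by decide +kernel) (by decide +kernel)
    fun j hj => by
      interval_cases j
      exacts [rel13_0]

theorem rel14 : allBelow data.n (data.idAt [0, 5, 0, 5]) = true :=
  Wide.PermData.allBelow_of_chunks (m := 1) (d := 15) (by decide +kernel) (by decide +kernel)
    fun j hj => by
      interval_cases j
      exacts [rel14_0]

theorem rel15 : allBelow data.n (data.idAt [0, 6, 0, 6]) = true :=
  Wide.PermData.allBelow_of_chunks (m := 1) (d := 15) (by decide +kernel) (by decide +kernel)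
    fun j hj => by
      interval_cases j
      exacts [rel15_0]

theorem rel16 : allBelow data.n (data.idAt [0, 7, 0, 7]) = true :=
  Wide.PermData.allBelow_of_chunks (m := 1) (d := 15) (by decide +kernel) (by decide +kernel)
    fun j hj => by
      interval_cases j
      exacts [rel16_0]

theorem rel17 : allBelow data.n (data.idAt [0, 8, 0, 8]) = true :=
  Wide.PermData.allBelow_of_chunks (m := 1) (d := 15) (by decide +kernel) (by decide +kernel)
    fun j hj => by
      interval_cases j
      exacts [rel17_0]

theorem rel18 : allBelow data.n (data.idAt [0, 9, 0, 9]) = true :=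
  Wide.PermData.allBelow_of_chunks (m := 1) (d := 15) (by decide +kernel) (by decide +kernel)
    fun j hj => by
      interval_cases j
      exacts [rel18_0]

theorem rel19 : allBelow data.n (data.idAt [1, 2, 1, 2, 1, 2]) = true :=
  Wide.PermData.allBelow_of_chunks (m := 2) (d := 14) (by decide +kernel) (by decide +kernel)
    fun j hj => by
      interval_cases j
      exacts [rel19_0, rel19_1]

theorem rel20 : allBelow data.n (data.idAt [1, 3, 1, 3]) = true :=
  Wide.PermData.allBelow_of_chunks (m := 1) (d := 15) (by decide +kernel) (by decide +kernel)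
    fun j hj => by
      interval_cases j
      exacts [rel20_0]

theorem rel21 : allBelow data.n (data.idAt [1, 4, 1, 4]) = true :=
  Wide.PermData.allBelow_of_chunks (m := 1) (d := 15) (by decide +kernel) (by decide +kernel)
    fun j hj => by
      interval_cases j
      exacts [rel21_0]

theorem rel22 : allBelow data.n (data.idAt [1, 5, 1, 5]) = true :=
  Wide.PermData.allBelow_of_chunks (m := 1) (d := 15) (by decide +kernel) (by decide +kernel)
    fun j hj => by
      interval_cases j
      exacts [rel22_0]

theorem rel23 : allBelow data.n (data.idAt [1, 6, 1, 6]) = true :=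
  Wide.PermData.allBelow_of_chunks (m := 1) (d := 15) (by decide +kernel) (by decide +kernel)
    fun j hj => by
      interval_cases j
      exacts [rel23_0]

theorem rel24 : allBelow data.n (data.idAt [1, 7, 1, 7]) = true :=
  Wide.PermData.allBelow_of_chunks (m := 1) (d := 15) (by decide +kernel) (by decide +kernel)
    fun j hj => by
      interval_cases j
      exacts [rel24_0]

theorem rel25 : allBelow data.n (data.idAt [1, 8, 1, 8]) = true :=
  Wide.PermData.allBelow_of_chunks (m := 1) (d := 15) (by decide +kernel) (by decide +kernel)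
    fun j hj => by
      interval_cases j
      exacts [rel25_0]

theorem rel26 : allBelow data.n (data.idAt [1, 9, 1, 9]) = true :=
  Wide.PermData.allBelow_of_chunks (m := 1) (d := 15) (by decide +kernel) (by decide +kernel)
    fun j hj => by
      interval_cases j
      exacts [rel26_0]

theorem rel27 : allBelow data.n (data.idAt [2, 3, 2, 3, 2, 3]) = true :=
  Wide.PermData.allBelow_of_chunks (m := 2) (d := 14) (by decide +kernel) (by decide +kernel)
    fun j hj => by
      interval_cases j
      exacts [rel27_0, rel27_1]

theorem rel28 : allBelow data.n (data.idAt [2, 4, 2, 4]) = true :=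
  Wide.PermData.allBelow_of_chunks (m := 1) (d := 15) (by decide +kernel) (by decide +kernel)
    fun j hj => by
      interval_cases j
      exacts [rel28_0]

theorem rel29 : allBelow data.n (data.idAt [2, 5, 2, 5]) = true :=
  Wide.PermData.allBelow_of_chunks (m := 1) (d := 15) (by decide +kernel) (by decide +kernel)
    fun j hj => by
      interval_cases j
      exacts [rel29_0]

theorem rel30 : allBelow data.n (data.idAt [2, 6, 2, 6]) = true :=
  Wide.PermData.allBelow_of_chunks (m := 1) (d := 15) (by decide +kernel) (by decide +kernel)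
    fun j hj => by
      interval_cases j
      exacts [rel30_0]

theorem rel31 : allBelow data.n (data.idAt [2, 7, 2, 7]) = true :=
  Wide.PermData.allBelow_of_chunks (m := 1) (d := 15) (by decide +kernel) (by decide +kernel)
    fun j hj => by
      interval_cases j
      exacts [rel31_0]

theorem rel32 : allBelow data.n (data.idAt [2, 8, 2, 8]) = true :=
  Wide.PermData.allBelow_of_chunks (m := 1) (d := 15) (by decide +kernel) (by decide +kernel)
    fun j hj => by
      interval_cases j
      exacts [rel32_0]

theorem rel33 : allBelow data.n (data.idAt [2, 9, 2, 9]) = true :=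
  Wide.PermData.allBelow_of_chunks (m := 1) (d := 15) (by decide +kernel) (by decide +kernel)
    fun j hj => by
      interval_cases j
      exacts [rel33_0]

theorem rel34 : allBelow data.n (data.idAt [3, 4, 3, 4, 3, 4]) = true :=
  Wide.PermData.allBelow_of_chunks (m := 2) (d := 14) (by decide +kernel) (by decide +kernel)
    fun j hj => by
      interval_cases j
      exacts [rel34_0, rel34_1]

theorem rel35 : allBelow data.n (data.idAt [3, 5, 3, 5]) = true :=
  Wide.PermData.allBelow_of_chunks (m := 1) (d := 15) (by decide +kernel) (by decide +kernel)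
    fun j hj => by
      interval_cases j
      exacts [rel35_0]

theorem rel36 : allBelow data.n (data.idAt [3, 6, 3, 6]) = true :=
  Wide.PermData.allBelow_of_chunks (m := 1) (d := 15) (by decide +kernel) (by decide +kernel)
    fun j hj => by
      interval_cases j
      exacts [rel36_0]

theorem rel37 : allBelow data.n (data.idAt [3, 7, 3, 7]) = true :=
  Wide.PermData.allBelow_of_chunks (m := 1) (d := 15) (by decide +kernel) (by decide +kernel)
    fun j hj => by
      interval_cases j
      exacts [rel37_0]

theorem rel38 : allBelow data.n (data.idAt [3, 8, 3, 8, 3, 8]) = true :=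
  Wide.PermData.allBelow_of_chunks (m := 2) (d := 14) (by decide +kernel) (by decide +kernel)
    fun j hj => by
      interval_cases j
      exacts [rel38_0, rel38_1]

theorem rel39 : allBelow data.n (data.idAt [3, 9, 3, 9]) = true :=
  Wide.PermData.allBelow_of_chunks (m := 1) (d := 15) (by decide +kernel) (by decide +kernel)
    fun j hj => by
      interval_cases j
      exacts [rel39_0]

theorem rel40 : allBelow data.n (data.idAt [4, 5, 4, 5, 4, 5]) = true :=
  Wide.PermData.allBelow_of_chunks (m := 2) (d := 14) (by decide +kernel) (by decide +kernel)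
    fun j hj => by
      interval_cases j
      exacts [rel40_0, rel40_1]

theorem rel41 : allBelow data.n (data.idAt [4, 6, 4, 6]) = true :=
  Wide.PermData.allBelow_of_chunks (m := 1) (d := 15) (by decide +kernel) (by decide +kernel)
    fun j hj => by
      interval_cases j
      exacts [rel41_0]

theorem rel42 : allBelow data.n (data.idAt [4, 7, 4, 7]) = true :=
  Wide.PermData.allBelow_of_chunks (m := 1) (d := 15) (by decide +kernel) (by decide +kernel)
    fun j hj => by
      interval_cases j
      exacts [rel42_0]

theorem rel43 : allBelow data.n (data.idAt [4, 8, 4, 8]) = true :=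
  Wide.PermData.allBelow_of_chunks (m := 1) (d := 15) (by decide +kernel) (by decide +kernel)
    fun j hj => by
      interval_cases j
      exacts [rel43_0]

theorem rel44 : allBelow data.n (data.idAt [4, 9, 4, 9]) = true :=
  Wide.PermData.allBelow_of_chunks (m := 1) (d := 15) (by decide +kernel) (by decide +kernel)
    fun j hj => by
      interval_cases j
      exacts [rel44_0]

theorem rel45 : allBelow data.n (data.idAt [5, 6, 5, 6, 5, 6]) = true :=
  Wide.PermData.allBelow_of_chunks (m := 2) (d := 14) (by decide +kernel) (by decide +kernel)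
    fun j hj => by
      interval_cases j
      exacts [rel45_0, rel45_1]

theorem rel46 : allBelow data.n (data.idAt [5, 7, 5, 7]) = true :=
  Wide.PermData.allBelow_of_chunks (m := 1) (d := 15) (by decide +kernel) (by decide +kernel)
    fun j hj => by
      interval_cases j
      exacts [rel46_0]

theorem rel47 : allBelow data.n (data.idAt [5, 8, 5, 8]) = true :=
  Wide.PermData.allBelow_of_chunks (m := 1) (d := 15) (by decide +kernel) (by decide +kernel)
    fun j hj => by
      interval_cases j
      exacts [rel47_0]

theorem rel48 : allBelow data.n (data.idAt [5, 9, 5, 9]) = true :=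
  Wide.PermData.allBelow_of_chunks (m := 1) (d := 15) (by decide +kernel) (by decide +kernel)
    fun j hj => by
      interval_cases j
      exacts [rel48_0]

theorem rel49 : allBelow data.n (data.idAt [6, 7, 6, 7, 6, 7]) = true :=
  Wide.PermData.allBelow_of_chunks (m := 2) (d := 14) (by decide +kernel) (by decide +kernel)
    fun j hj => by
      interval_cases j
      exacts [rel49_0, rel49_1]

theorem rel50 : allBelow data.n (data.idAt [6, 8, 6, 8]) = true :=
  Wide.PermData.allBelow_of_chunks (m := 1) (d := 15) (by decide +kernel) (by decide +kernel)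
    fun j hj => by
      interval_cases j
      exacts [rel50_0]

theorem rel51 : allBelow data.n (data.idAt [6, 9, 6, 9]) = true :=
  Wide.PermData.allBelow_of_chunks (m := 1) (d := 15) (by decide +kernel) (by decide +kernel)
    fun j hj => by
      interval_cases j
      exacts [rel51_0]

theorem rel52 : allBelow data.n (data.idAt [7, 8, 7, 8]) = true :=
  Wide.PermData.allBelow_of_chunks (m := 1) (d := 15) (by decide +kernel) (by decide +kernel)
    fun j hj => by
      interval_cases j
      exacts [rel52_0]

theorem rel53 : allBelow data.n (data.idAt [7, 9, 7, 9]) = true :=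
  Wide.PermData.allBelow_of_chunks (m := 1) (d := 15) (by decide +kernel) (by decide +kernel)
    fun j hj => by
      interval_cases j
      exacts [rel53_0]

theorem rel54 : allBelow data.n (data.idAt [8, 9, 8, 9, 8, 9]) = true :=
  Wide.PermData.allBelow_of_chunks (m := 2) (d := 14) (by decide +kernel) (by decide +kernel)
    fun j hj => by
      interval_cases j
      exacts [rel54_0, rel54_1]

theorem wd10 : allBelow data.n (data.wordAt 10 [7, 6, 5, 4, 3, 2, 1, 0, 8, 3, 2, 4, 3, 5, 8, 9, 8, 3, 2, 1, 4, 3, 5, 4, 8, 3, 2, 1, 2, 3, 4, 5, 1, 2, 3, 4, 0, 1, 2, 3, 8, 9, 3, 4, 2, 3, 8, 1, 2, 3, 4, 5, 6, 7]) = true :=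
  Wide.PermData.allBelow_of_chunks (m := 16) (d := 11) (by decide +kernel) (by decide +kernel)
    fun j hj => by
      interval_cases j
      exacts [wd10_0, wd10_1, wd10_2, wd10_3, wd10_4, wd10_5, wd10_6, wd10_7, wd10_8, wd10_9, wd10_10, wd10_11, wd10_12, wd10_13, wd10_14, wd10_15]

theorem wd11 : allBelow data.n (data.wordAt 11 [6, 5, 10, 5, 10, 0, 5, 10, 10, 5, 4, 3, 10, 5, 10, 5, 10, 0, 10, 4, 5, 6]) = true :=
  Wide.PermData.allBelow_of_chunks (m := 4) (d := 13) (by decide +kernel) (by decide +kernel)
    fun j hj => by
      interval_cases j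
      exacts [wd11_0, wd11_1, wd11_2, wd11_3]

theorem wd12 : allBelow data.n (data.wordAt 12 [5, 11, 1, 2, 11, 9, 11, 3, 8, 9, 11, 10, 5]) = true :=
  Wide.PermData.allBelow_of_chunks (m := 4) (d := 13) (by decide +kernel) (by decide +kernel)
    fun j hj => by
      interval_cases j
      exacts [wd12_0, wd12_1, wd12_2, wd12_3]

theorem wd13 : allBelow data.n (data.wordAt 13 [12, 0, 4, 3, 10, 0, 12]) = true :=
  Wide.PermData.allBelow_of_chunks (m := 2) (d := 14) (by decide +kernel) (by decide +kernel)
    fun j hj => by
      interval_cases j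
      exacts [wd13_0, wd13_1]

theorem wd14 : allBelow data.n (data.wordAt 14 [11, 3, 4, 3]) = true :=
  Wide.PermData.allBelow_of_chunks (m := 1) (d := 15) (by decide +kernel) (by decide +kernel)
    fun j hj => by
      interval_cases j
      exacts [wd14_0]

theorem wd15 : allBelow data.n (data.wordAt 15 [14, 4, 10, 14]) = true :=
  Wide.PermData.allBelow_of_chunks (m := 1) (d := 15) (by decide +kernel) (by decide +kernel)
    fun j hj => by
      interval_cases j
      exacts [wd15_0]

theorem wd16 : allBelow data.n (data.wordAt 16 [15, 8, 10]) = true :=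
  Wide.PermData.allBelow_of_chunks (m := 1) (d := 15) (by decide +kernel) (by decide +kernel)
    fun j hj => by
      interval_cases j
      exacts [wd16_0]

theorem wd17 : allBelow data.n (data.wordAt 17 [3, 2, 1, 3, 4, 5, 3, 8, 9]) = true :=
  Wide.PermData.allBelow_of_chunks (m := 2) (d := 14) (by decide +kernel) (by decide +kernel)
    fun j hj => by
      interval_cases j
      exacts [wd17_0, wd17_1]

theorem wd18 : allBelow data.n (data.wordAt 18 [17, 17, 17, 17, 17]) = true :=
  Wide.PermData.allBelow_of_chunks (m := 1) (d := 15) (by decide +kernel) (by decide +kernel)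
    fun j hj => by
      interval_cases j
      exacts [wd18_0]

theorem wd19 : allBelow data.n (data.wordAt 19 [0, 1, 2, 3, 4, 5, 8]) = true :=
  Wide.PermData.allBelow_of_chunks (m := 2) (d := 14) (by decide +kernel) (by decide +kernel)
    fun j hj => by
      interval_cases j
      exacts [wd19_0, wd19_1]

theorem wd20 : allBelow data.n (data.wordAt 20 [19, 19, 19]) = true :=
  Wide.PermData.allBelow_of_chunks (m := 1) (d := 15) (by decide +kernel) (by decide +kernel)
    fun j hj => by
      interval_cases j
      exacts [wd20_0]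

theorem spPow : allBelow data.n (data.idAt [18, 18]) = true :=
  Wide.PermData.allBelow_of_chunks (m := 1) (d := 15) (by decide +kernel) (by decide +kernel)
    fun j hj => by
      interval_cases j
      exacts [spPow_0]

theorem esPow : allBelow data.n (data.idAt [20, 20, 20]) = true :=
  Wide.PermData.allBelow_of_chunks (m := 1) (d := 15) (by decide +kernel) (by decide +kernel)
    fun j hj => by
      interval_cases j
      exacts [esPow_0]

theorem sevU : allBelow data.n (fun i => Nat.beq (data.app [7, 0, 2, 6, 5, 1, 4, 8, 3] i) (sevenData.img 0 i)) = true :=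
  Wide.PermData.allBelow_of_chunks (m := 2) (d := 14) (by decide +kernel) (by decide +kernel)
    fun j hj => by
      interval_cases j
      exacts [sevU_0, sevU_1]

theorem sevV : allBelow data.n (fun i => Nat.beq (data.app [0, 1, 7, 0, 2, 6, 5, 1, 4, 8, 3] i) (sevenData.img 1 i)) = true :=
  Wide.PermData.allBelow_of_chunks (m := 2) (d := 14) (by decide +kernel) (by decide +kernel)
    fun j hj => by
      interval_cases j
      exacts [sevV_0, sevV_1]

theorem sevPow0 : allBelow data.n (fun i => Nat.beq (sevenData.app [0, 0, 0, 0, 0, 0, 0, 0, 0, 0, 0, 0, 0, 0, 0, 0, 0] i) i) = true :=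
  Wide.PermData.allBelow_of_chunks (m := 4) (d := 13) (by decide +kernel) (by decide +kernel)
    fun j hj => by
      interval_cases j
      exacts [sevPow0_0, sevPow0_1, sevPow0_2, sevPow0_3]

theorem sevPow1 : allBelow data.n (fun i => Nat.beq (sevenData.app [1, 1, 1, 1, 1, 1, 1, 1, 1, 1, 1, 1, 1, 1, 1, 1, 1] i) i) = true :=
  Wide.PermData.allBelow_of_chunks (m := 4) (d := 13) (by decide +kernel) (by decide +kernel)
    fun j hj => by
      interval_cases j
      exacts [sevPow1_0, sevPow1_1, sevPow1_2, sevPow1_3]

theorem sub0_cl0 : allBelow sub0.len (data.closedAt sub0 0) = true :=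
  Wide.PermData.allBelow_of_chunks (m := 1) (d := 15) (by decide +kernel) (by decide +kernel)
    fun j hj => by
      interval_cases j
      exacts [sub0_cl0_0]

theorem sub0_cl1 : allBelow sub0.len (data.closedAt sub0 1) = true :=
  Wide.PermData.allBelow_of_chunks (m := 1) (d := 15) (by decide +kernel) (by decide +kernel)
    fun j hj => by
      interval_cases j
      exacts [sub0_cl1_0]

theorem sub0_cl2 : allBelow sub0.len (data.closedAt sub0 2) = true :=
  Wide.PermData.allBelow_of_chunks (m := 1) (d := 15) (by decide +kernel) (by decide +kernel)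
    fun j hj => by
      interval_cases j
      exacts [sub0_cl2_0]

theorem sub0_cl3 : allBelow sub0.len (data.closedAt sub0 3) = true :=
  Wide.PermData.allBelow_of_chunks (m := 1) (d := 15) (by decide +kernel) (by decide +kernel)
    fun j hj => by
      interval_cases j
      exacts [sub0_cl3_0]

theorem sub0_cl4 : allBelow sub0.len (data.closedAt sub0 4) = true :=
  Wide.PermData.allBelow_of_chunks (m := 1) (d := 15) (by decide +kernel) (by decide +kernel)
    fun j hj => by
      interval_cases j
      exacts [sub0_cl4_0]

theorem sub0_cl5 : allBelow sub0.len (data.closedAt sub0 5) = true :=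
  Wide.PermData.allBelow_of_chunks (m := 1) (d := 15) (by decide +kernel) (by decide +kernel)
    fun j hj => by
      interval_cases j
      exacts [sub0_cl5_0]

theorem sub0_cl6 : allBelow sub0.len (data.closedAt sub0 6) = true :=
  Wide.PermData.allBelow_of_chunks (m := 1) (d := 15) (by decide +kernel) (by decide +kernel)
    fun j hj => by
      interval_cases j
      exacts [sub0_cl6_0]

theorem sub0_cl8 : allBelow sub0.len (data.closedAt sub0 8) = true :=
  Wide.PermData.allBelow_of_chunks (m := 1) (d := 15) (by decide +kernel) (by decide +kernel)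
    fun j hj => by
      interval_cases j
      exacts [sub0_cl8_0]

theorem sub0_cl9 : allBelow sub0.len (data.closedAt sub0 9) = true :=
  Wide.PermData.allBelow_of_chunks (m := 1) (d := 15) (by decide +kernel) (by decide +kernel)
    fun j hj => by
      interval_cases j
      exacts [sub0_cl9_0]

theorem sub1_cl0 : allBelow sub1.len (data.closedAt sub1 0) = true :=
  Wide.PermData.allBelow_of_chunks (m := 1) (d := 12) (by decide +kernel) (by decide +kernel)
    fun j hj => by
      interval_cases j
      exacts [sub1_cl0_0]

theorem sub1_cl1 : allBelow sub1.len (data.closedAt sub1 1) = true :=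
  Wide.PermData.allBelow_of_chunks (m := 1) (d := 12) (by decide +kernel) (by decide +kernel)
    fun j hj => by
      interval_cases j
      exacts [sub1_cl1_0]

theorem sub1_cl2 : allBelow sub1.len (data.closedAt sub1 2) = true :=
  Wide.PermData.allBelow_of_chunks (m := 1) (d := 12) (by decide +kernel) (by decide +kernel)
    fun j hj => by
      interval_cases j
      exacts [sub1_cl2_0]

theorem sub1_cl3 : allBelow sub1.len (data.closedAt sub1 3) = true :=
  Wide.PermData.allBelow_of_chunks (m := 1) (d := 12) (by decide +kernel) (by decide +kernel)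
    fun j hj => by
      interval_cases j
      exacts [sub1_cl3_0]

theorem sub1_cl4 : allBelow sub1.len (data.closedAt sub1 4) = true :=
  Wide.PermData.allBelow_of_chunks (m := 1) (d := 12) (by decide +kernel) (by decide +kernel)
    fun j hj => by
      interval_cases j
      exacts [sub1_cl4_0]

theorem sub1_cl5 : allBelow sub1.len (data.closedAt sub1 5) = true :=
  Wide.PermData.allBelow_of_chunks (m := 1) (d := 12) (by decide +kernel) (by decide +kernel)
    fun j hj => by
      interval_cases j
      exacts [sub1_cl5_0]

theorem sub1_cl6 : allBelow sub1.len (data.closedAt sub1 6) = true :=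
  Wide.PermData.allBelow_of_chunks (m := 1) (d := 12) (by decide +kernel) (by decide +kernel)
    fun j hj => by
      interval_cases j
      exacts [sub1_cl6_0]

theorem sub1_cl8 : allBelow sub1.len (data.closedAt sub1 8) = true :=
  Wide.PermData.allBelow_of_chunks (m := 1) (d := 12) (by decide +kernel) (by decide +kernel)
    fun j hj => by
      interval_cases j
      exacts [sub1_cl8_0]

theorem sub1_cl9 : allBelow sub1.len (data.closedAt sub1 9) = true :=
  Wide.PermData.allBelow_of_chunks (m := 1) (d := 12) (by decide +kernel) (by decide +kernel)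
    fun j hj => by
      interval_cases j
      exacts [sub1_cl9_0]

theorem invol_ok : data.okInvol = true :=
  Wide.PermData.okInvol_of (by decide +kernel) fun k hk => by
    have hk' : k < 10 := hk
    interval_cases k
    exacts [inv0, inv1, inv2, inv3, inv4, inv5, inv6, inv7, inv8, inv9]

/-- numeric relators of length at most six -/
def relPairs : List (List Nat) :=
  [[0, 0], [1, 1], [2, 2], [3, 3], [4, 4], [5, 5], [6, 6], [7, 7], [8, 8], [9, 9], [0, 1, 0, 1, 0, 1], [0, 2, 0, 2], [0, 3, 0, 3], [0, 4, 0, 4], [0, 5, 0, 5], [0, 6, 0, 6], [0, 7, 0, 7], [0, 8, 0, 8], [0, 9, 0, 9], [1, 2, 1, 2, 1, 2], [1, 3, 1, 3], [1, 4, 1, 4], [1, 5, 1, 5], [1, 6, 1, 6], [1, 7, 1, 7], [1, 8, 1, 8], [1, 9, 1, 9], [2, 3, 2, 3, 2, 3], [2, 4, 2, 4], [2, 5, 2, 5], [2, 6, 2, 6], [2, 7, 2, 7], [2, 8, 2, 8], [2, 9, 2, 9], [3, 4, 3, 4, 3, 4], [3, 5, 3, 5], [3, 6, 3, 6], [3, 7, 3, 7], [3, 8, 3, 8, 3, 8], [3, 9, 3, 9], [4, 5, 4, 5, 4, 5], [4, 6, 4, 6], [4, 7, 4, 7], [4, 8, 4, 8], [4, 9, 4, 9], [5, 6, 5, 6, 5, 6], [5, 7, 5, 7], [5, 8, 5, 8], [5, 9, 5, 9], [6, 7, 6, 7, 6, 7], [6, 8, 6,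 8], [6, 9, 6, 9], [7, 8, 7, 8], [7, 9, 7, 9], [8, 9, 8, 9, 8, 9]]

theorem relPairs_ok : data.okNums relPairs = true := by
  simp only [Wide.PermData.okNums, relPairs, List.all_cons, List.all_nil, Bool.and_true, Bool.and_eq_true]
  exact ⟨⟨by decide +kernel, Wide.PermData.okId_of rel0⟩, ⟨by decide +kernel, Wide.PermData.okId_of rel1⟩, ⟨by decide +kernel, Wide.PermData.okId_of rel2⟩, ⟨by decide +kernel, Wide.PermData.okId_of rel3⟩, ⟨by decide +kernel, Wide.PermData.okId_of rel4⟩, ⟨by decide +kernel, Wide.PermData.okId_of rel5⟩, ⟨by decide +kernel, Wide.PermData.okId_of rel6⟩, ⟨by decide +kernel, Wide.PermData.okId_of rel7⟩, ⟨by decide +kernel, Wide.PermData.okId_of rel8⟩, ⟨by decide +kernel, Wide.PermData.okId_of rel9⟩, ⟨by decide +kernel, Wide.PermData.okId_of rel10⟩, ⟨by decide +kernel, Wide.PermData.okId_of rel11⟩, ⟨by decide +kernel, Wide.PermData.okId_of rel12⟩, ⟨by decide +kernel, Wide.PermData.okId_of rel13⟩, ⟨by decide +kernel, Wide.PermData.okId_of rel14⟩, ⟨by decide +kernel, Wide.PermData.okId_of rel15⟩, ⟨by decide +kernel, Wide.PermData.okId_of rel16⟩,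 ⟨by decide +kernel, Wide.PermData.okId_of rel17⟩, ⟨by decide +kernel, Wide.PermData.okId_of rel18⟩, ⟨by decide +kernel, Wide.PermData.okId_of rel19⟩, ⟨by decide +kernel, Wide.PermData.okId_of rel20⟩, ⟨by decide +kernel, Wide.PermData.okId_of rel21⟩, ⟨by decide +kernel, Wide.PermData.okId_of rel22⟩, ⟨by decide +kernel, Wide.PermData.okId_of rel23⟩, ⟨by decide +kernel, Wide.PermData.okId_of rel24⟩, ⟨by decide +kernel, Wide.PermData.okId_of rel25⟩, ⟨by decide +kernel, Wide.PermData.okId_of rel26⟩, ⟨by decide +kernel, Wide.PermData.okId_of rel27⟩, ⟨by decide +kernel, Wide.PermData.okId_of rel28⟩, ⟨by decide +kernel, Wide.PermData.okId_of rel29⟩, ⟨by decide +kernel, Wide.PermData.okId_of rel30⟩, ⟨by decide +kernel, Wide.PermData.okId_of rel31⟩, ⟨by decide +kernel, Wide.PermData.okId_of rel32⟩, ⟨by decide +kernel, Wide.PermData.okId_of rel33⟩, ⟨by decide +kernel, Wide.PermData.okId_of rel34⟩, ⟨by decide +kernel, Wide.PermData.okId_of rel35⟩, ⟨by decide +kernel, Wide.PermData.okId_of rel36⟩, ⟨by decide +kernel, Wide.PermData.okId_of rel37⟩, ⟨by decide +kernel, Wide.PermData.okId_of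 rel38⟩, ⟨by decide +kernel, Wide.PermData.okId_of rel39⟩, ⟨by decide +kernel, Wide.PermData.okId_of rel40⟩, ⟨by decide +kernel, Wide.PermData.okId_of rel41⟩, ⟨by decide +kernel, Wide.PermData.okId_of rel42⟩, ⟨by decide +kernel, Wide.PermData.okId_of rel43⟩, ⟨by decide +kernel, Wide.PermData.okId_of rel44⟩, ⟨by decide +kernel, Wide.PermData.okId_of rel45⟩, ⟨by decide +kernel, Wide.PermData.okId_of rel46⟩, ⟨by decide +kernel, Wide.PermData.okId_of rel47⟩, ⟨by decide +kernel, Wide.PermData.okId_of rel48⟩, ⟨by decide +kernel, Wide.PermData.okId_of rel49⟩, ⟨by decide +kernel, Wide.PermData.okId_of rel50⟩, ⟨by decide +kernel, Wide.PermData.okId_of rel51⟩, ⟨by decide +kernel, Wide.PermData.okId_of rel52⟩, ⟨by decide +kernel, Wide.PermData.okId_of rel53⟩, ⟨by decide +kernel, Wide.PermData.okId_of rel54⟩⟩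

theorem word10_ok : data.okWord 10 [7, 6, 5, 4, 3, 2, 1, 0, 8, 3, 2, 4, 3, 5, 8, 9, 8, 3, 2, 1, 4, 3, 5, 4, 8, 3, 2, 1, 2, 3, 4, 5, 1, 2, 3, 4, 0, 1, 2, 3, 8, 9, 3, 4, 2, 3, 8, 1, 2, 3, 4, 5, 6, 7] = true :=
  Wide.PermData.okWord_of (by decide +kernel) wd10

theorem word11_ok : data.okWord 11 [6, 5, 10, 5, 10, 0, 5, 10, 10, 5, 4, 3, 10, 5, 10, 5, 10, 0, 10, 4, 5, 6] = true :=
  Wide.PermData.okWord_of (by decide +kernel) wd11

theorem word12_ok : data.okWord 12 [5, 11, 1, 2, 11, 9, 11, 3, 8, 9, 11, 10, 5] = true :=
  Wide.PermData.okWord_of (by decide +kernel) wd12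

theorem word13_ok : data.okWord 13 [12, 0, 4, 3, 10, 0, 12] = true :=
  Wide.PermData.okWord_of (by decide +kernel) wd13

theorem word14_ok : data.okWord 14 [11, 3, 4, 3] = true :=
  Wide.PermData.okWord_of (by decide +kernel) wd14

theorem word15_ok : data.okWord 15 [14, 4, 10, 14] = true :=
  Wide.PermData.okWord_of (by decide +kernel) wd15

theorem word16_ok : data.okWord 16 [15, 8, 10] = true :=
  Wide.PermData.okWord_of (by decide +kernel) wd16

theorem word17_ok : data.okWord 17 [3, 2, 1, 3, 4, 5, 3, 8, 9] = true :=
  Wide.PermData.okWord_of (by decide +kernel) wd17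

theorem word18_ok : data.okWord 18 [17, 17, 17, 17, 17] = true :=
  Wide.PermData.okWord_of (by decide +kernel) wd18

theorem word19_ok : data.okWord 19 [0, 1, 2, 3, 4, 5, 8] = true :=
  Wide.PermData.okWord_of (by decide +kernel) wd19

theorem word20_ok : data.okWord 20 [19, 19, 19] = true :=
  Wide.PermData.okWord_of (by decide +kernel) wd20

theorem words_ok : data.okWords data.g data.words = true :=
  Wide.PermData.okWords_cons data word10_ok <| Wide.PermData.okWords_cons data word11_ok <| Wide.PermData.okWords_cons data word12_ok <| Wide.PermData.okWords_cons data word13_ok <| Wide.PermData.okWords_cons data word14_ok <| Wide.PermData.okWords_cons data word15_ok <| Wide.PermData.okWords_cons data word16_ok <| Wide.PermData.okWords_cons data word17_ok <| Wide.PermData.okWords_cons data word18_ok <| Wide.PermData.okWords_cons data word19_ok <| Wide.PermData.okWords_cons data word20_ok <| rfl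

/-- the spider word -/
def spider : List Nat := [3, 2, 1, 3, 4, 5, 3, 8, 9]

/-- the word of the sub-diagram of type `E7` -/
def eSeven : List Nat := [0, 1, 2, 3, 4, 5, 8]

theorem spider_ok : data.okId (List.replicate (5 * 2) spider).flatten = true :=
  Wide.PermData.okId_power invol_ok (by decide +kernel) word17_ok word18_ok (Wide.PermData.okId_of spPow)

theorem eSeven_ok : data.okId (List.replicate (3 * 3) eSeven).flatten = true :=
  Wide.PermData.okId_power invol_ok (by decide +kernel) word19_ok word20_ok (Wide.PermData.okId_of esPow)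

theorem levels_ok : data.okLevels [] levels = true := by
  unfold levels
  exact (Wide.PermData.okLevels_cons lev0_orbit (by decide +kernel) (by decide +kernel)
    (Wide.PermData.okLevels_cons lev1_orbit (by decide +kernel) (by decide +kernel)
    (Wide.PermData.okLevels_cons lev2_orbit (by decide +kernel) (by decide +kernel)
    (Wide.PermData.okLevels_cons lev3_orbit (by decide +kernel) (by decide +kernel)
    (Wide.PermData.okLevels_cons lev4_orbit (by decide +kernel) (by decide +kernel)
    (Wide.PermData.okLevels_cons lev5_orbit (by decide +kernel) (by decide +kernel)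
    (Wide.PermData.okLevels_cons lev6_orbit (by decide +kernel) (by decide +kernel)
    (Wide.PermData.okLevels_cons lev7_orbit (by decide +kernel) (by decide +kernel)
    (Wide.PermData.okLevels_cons lev8_orbit (by decide +kernel) (by decide +kernel)
    (Wide.PermData.okLevels_cons lev9_orbit (by decide +kernel) (by decide +kernel)
    rfl))))))))))

theorem sub0_closed : data.okClosed sub0 = true :=
  Wide.PermData.okClosed_of sub0 fun k hk => by
    have hk' : k ∈ [0, 1, 2, 3, 4, 5, 6, 8, 9] := hk
    simp only [List.mem_cons, List.not_mem_nil, or_false] at hk'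
    rcases hk' with rfl | rfl | rfl | rfl | rfl | rfl | rfl | rfl | rfl
    exacts [sub0_cl0, sub0_cl1, sub0_cl2, sub0_cl3, sub0_cl4, sub0_cl5, sub0_cl6, sub0_cl8, sub0_cl9]

theorem sub1_closed : data.okClosed sub1 = true :=
  Wide.PermData.okClosed_of sub1 fun k hk => by
    have hk' : k ∈ [0, 1, 2, 3, 4, 5, 6, 8, 9] := hk
    simp only [List.mem_cons, List.not_mem_nil, or_false] at hk'
    rcases hk' with rfl | rfl | rfl | rfl | rfl | rfl | rfl | rfl | rfl
    exacts [sub1_cl0, sub1_cl1, sub1_cl2, sub1_cl3, sub1_cl4, sub1_cl5, sub1_cl6, sub1_cl8, sub1_cl9]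


end CfsgLib.Spor.Fi23.Perm
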