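import Cfsg.Agent.Lib.Spor.Fi23.Words
import Cfsg.Agent.Lib.Spor.Fi23.G0Cert
import Cfsg.Agent.Lib.Spor.Fi23.H9Cert
import Cfsg.Agent.Lib.Spor.Fi23.H8Cert
import Cfsg.Agent.Lib.Spor.Fi23.H7Cert
import Cfsg.Agent.Lib.Spor.Fi23.H6Cert
import Cfsg.Agent.Lib.Spor.Fi23.H5Cert
import Cfsg.Agent.Lib.Spor.Fi23.H4Cert
import Cfsg.Agent.Lib.Spor.Fi23.H3Cert
import Cfsg.Agent.Lib.Spor.Fi23.H2Cert
import Cfsg.Agent.Lib.Spor.Fi23.H1Cert
import Cfsg.Agent.Lib.Spor.Fi23.PermChecks

/-!
The order of the presented Fischer group Fi23.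
-/

namespace CfsgLib.Spor.Fi23

open CfsgLib.PresCert Cfsg.Spor

theorem card_c : CardLE (lettersGroup ([.c] : List Fi23.Gen) gen) 2 :=
  step_bound H9.valid [.c] [] (by simp) (by decide +kernel) (by decide +kernel)
    (by simpa [lettersGroup] using CardLE.bot)

theorem card_cd : CardLE (lettersGroup ([.c, .d] : List Fi23.Gen) gen) 6 :=
  step_bound H8.valid [.c, .d] [.c] (by simp) (by decide +kernel) (by decide +kernel) card_c

theorem card_cde : CardLE (lettersGroup ([.c, .d, .e] : List Fi23.Gen) gen) 24 :=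
  step_bound H7.valid [.c, .d, .e] [.c, .d] (by simp) (by decide +kernel) (by decide +kernel) card_cd

theorem card_cdeh : CardLE (lettersGroup ([.c, .d, .e, .h] : List Fi23.Gen) gen) 192 :=
  step_bound H6.valid [.c, .d, .e, .h] [.c, .d, .e] (by simp) (by decide +kernel) (by decide +kernel) card_cde

theorem card_cdefh : CardLE (lettersGroup ([.c, .d, .e, .f, .h] : List Fi23.Gen) gen) 1920 :=
  step_bound H5.valid [.c, .d, .e, .f, .h] [.c, .d, .e, .h] (by simp) (by decide +kernel) (by decide +kernel) card_cdeh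

theorem card_bcdefh : CardLE (lettersGroup ([.b, .c, .d, .e, .f, .h] : List Fi23.Gen) gen) 51840 :=
  step_bound H4.valid [.b, .c, .d, .e, .f, .h] [.c, .d, .e, .f, .h] (by simp) (by decide +kernel) (by decide +kernel) card_cdefh

theorem card_bcdefgh : CardLE (lettersGroup ([.b, .c, .d, .e, .f, .g, .h] : List Fi23.Gen) gen) 2903040 :=
  step_bound H3.valid [.b, .c, .d, .e, .f, .g, .h] [.b, .c, .d, .e, .f, .h] (by simp) (by decide +kernel) (by decide +kernel) card_bcdefh

theorem card_bcdefghi : CardLE (lettersGroup ([.b, .c, .d, .e, .f, .g, .h, .i] : List Fi23.Gen) gen) 9170703360 :=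
  step_bound H2.valid [.b, .c, .d, .e, .f, .g, .h, .i] [.b, .c, .d, .e, .f, .g, .h] (by simp) (by decide +kernel) (by decide +kernel) card_bcdefgh

theorem card_abcdefghi : CardLE (lettersGroup ([.a, .b, .c, .d, .e, .f, .g, .h, .i] : List Fi23.Gen) gen) 129123503308800 :=
  step_bound H1.valid [.a, .b, .c, .d, .e, .f, .g, .h, .i] [.b, .c, .d, .e, .f, .g, .h, .i] (by simp) (by decide +kernel) (by decide +kernel) card_bcdefghi

theorem card_H_le : CardLE (lettersGroup hGens gen) 129123503308800 := card_abcdefghi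

theorem card_all_le : CardLE (⊤ : Subgroup Cfsg.Spor.Fi23) 4089470473293004800 :=
  top_eq_lettersGroup (edges := Fi23.edges) (extra := Fi23.extra) allGens mem_allGens ▸
    step_bound G0.valid allGens hGens (fun x _ => mem_allGens x) (by decide +kernel)
      (by decide +kernel) card_H_le

theorem finite : Finite Cfsg.Spor.Fi23 := by
  have h := card_all_le.1
  rw [Subgroup.card_top] at h
  exact Nat.finite_of_card_ne_zero h

/-- all numeric relators -/
def relNums : List (List Nat) :=
  (List.replicate (5 * 2) Perm.spider).flatten :: (List.replicate (3 * 3) Perm.eSeven).flatten ::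
    Perm.relPairs

theorem relNums_ok : Perm.data.okNums relNums = true := by
  have h := Perm.relPairs_ok
  simp only [Wide.PermData.okNums] at h ⊢
  simp only [relNums, List.all_cons, h, Bool.and_true, Bool.and_eq_true]
  exact ⟨⟨by decide +kernel, Perm.spider_ok⟩, by decide +kernel, Perm.eSeven_ok⟩

theorem rels_covered : Wide.PermData.okCovered idx relNums known = true := by decide +kernel

theorem idx_surj (k : ℕ) (hk : k < Perm.data.g) : ∃ x, idx x = k := by
  have hk' : k < 10 := hk
  interval_cases k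
  exacts [⟨.a, rfl⟩, ⟨.b, rfl⟩, ⟨.c, rfl⟩, ⟨.d, rfl⟩, ⟨.e, rfl⟩, ⟨.f, rfl⟩, ⟨.g, rfl⟩, ⟨.j, rfl⟩,
    ⟨.h, rfl⟩, ⟨.i, rfl⟩]

/-- The presented Fischer group Fi23 has order `4089470473293004800`. -/
theorem natCard : Nat.card Cfsg.Spor.Fi23 = 4089470473293004800 := by
  have := finite
  refine le_antisymm ?_ ?_
  · have h := card_all_le.2
    rwa [Subgroup.card_top] at h
  · have h := Wide.le_card (edges := Fi23.edges) (extra := Fi23.extra) Perm.invol_ok wordsFor
      relNums_ok rels_covered idx_surj Perm.words_ok Perm.levels Perm.levels_ok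
    have e : (Perm.levels.map Level.len).prod = 4089470473293004800 := by decide +kernel
    rwa [e] at h

end CfsgLib.Spor.Fi23
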