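import Cfsg.Agent.Lib.Spor.Fi23.OutPoints
import Cfsg.Agent.Lib.Spor.Fi23.OutChkC
import Mathlib.GroupTheory.Sylow
import Mathlib.Algebra.Group.Subgroup.Pointwise

/-!
An automorphism of the presented group Fi23 sends the central involution of the double cover to a
conjugate of itself.
-/

namespace CfsgLib.Spor.Fi23.Auto

open CfsgLib.PresCert Cfsg.Spor
open scoped Pointwise

local notation "N" => Perm.data.n
local notation "app" => Wide.PermData.app Perm.data
local notation "F" => Cfsg.Spor.Fi23

/-- the element of order thirteen -/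
noncomputable def u : F := wordEl uW

theorem uW_lt : ∀ k ∈ uW, k < 10 := by decide

theorem wordEl_append (v w : List ℕ) : wordEl (v ++ w) = wordEl w * wordEl v := by
  simp [wordEl]

theorem wordEl_uPow (m : ℕ) : wordEl (uPow m) = u ^ m := by
  induction m with
  | zero => rfl
  | succ m ih =>
    rw [uPow, List.replicate_succ, List.flatten_cons, wordEl_append, ← uPow, ih, pow_succ]
    rfl

theorem uPow_lt (m : ℕ) : ∀ k ∈ uPow m, k < 10 := by
  intro k hk
  simp only [uPow, List.mem_flatten, List.mem_replicate] at hk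
  obtain ⟨l, ⟨-, rfl⟩, hl⟩ := hk
  exact uW_lt k hl

theorem π_uPow (m : ℕ) (i : Fin N) : ((π (u ^ m) i : Fin N) : ℕ) = app (uPow m) i := by
  rw [← wordEl_uPow, π_wordEl (uPow_lt m)]

theorem orderOf_u : orderOf u = 13 := by
  haveI : Fact (Nat.Prime 13) := ⟨by norm_num⟩
  refine orderOf_eq_prime (π_injective ?_) fun h => ?_
  · rw [map_one]
    refine Equiv.ext fun i => Fin.ext ?_
    rw [π_uPow, Equiv.Perm.one_apply]
    exact Nat.eq_of_beq_eq_true (allBelow_spec uPow13 i i.2)
  · have h1 : 1 < N := by rw [degree]; decide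
    have e := π_wordEl (w := uW) uW_lt ⟨1, h1⟩
    rw [show wordEl uW = u from rfl, h, map_one, Equiv.Perm.one_apply] at e
    have hm := u_moves
    rw [show Wide.PermData.app Perm.data uW 1 = 1 from e.symm] at hm
    exact absurd hm (by decide)

theorem card_zpowers_u {x : F} (h : orderOf x = 13) : Nat.card (Subgroup.zpowers x) = 13 := by
  rw [Nat.card_zpowers, h]

/-- any element commuting with an element of order thirteen has a conjugate commuting with `u` -/
theorem exists_conj_comm {t x : F} (hx : orderOf x = 13) (ht : t * x = x * t) :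
    ∃ g : F, (g * t * g⁻¹) * u = u * (g * t * g⁻¹) := by
  haveI := finite
  haveI : Fact (Nat.Prime 13) := ⟨by norm_num⟩
  have hfac : (Nat.card F).factorization 13 = 1 := by
    rw [natCard]
    have h1 : 13 ^ 1 ∣ 4089470473293004800 := by norm_num
    have h2 : ¬ 13 ^ 2 ∣ 4089470473293004800 := by norm_num
    have h0 : (4089470473293004800 : ℕ) ≠ 0 := by norm_num
    rw [(Nat.Prime.pow_dvd_iff_le_factorization (by norm_num) h0)] at h1 h2
    omega
  let P : Sylow 13 F := Sylow.ofCard (Subgroup.zpowers x)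
    (by rw [hfac, card_zpowers_u hx, pow_one])
  let Q : Sylow 13 F := Sylow.ofCard (Subgroup.zpowers u)
    (by rw [hfac, card_zpowers_u orderOf_u, pow_one])
  obtain ⟨g, hg⟩ := MulAction.exists_smul_eq F P Q
  have hu : u ∈ MulAut.conj g • (Subgroup.zpowers x) := by
    have h : u ∈ (Q : Subgroup F) := Subgroup.mem_zpowers u
    rw [← hg] at h
    exact h
  rw [Subgroup.mem_pointwise_smul_iff_inv_smul_mem, Subgroup.mem_zpowers_iff] at hu
  obtain ⟨k, hk⟩ := hu
  refine ⟨g, ?_⟩
  have hk' : u = g * x ^ k * g⁻¹ := by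
    rw [hk]
    simp [MulAut.smul_def, mul_assoc]
  have hc : t * x ^ k = x ^ k * t := (Commute.zpow_right (show Commute t x from ht) k)
  rw [hk']
  calc g * t * g⁻¹ * (g * x ^ k * g⁻¹) = g * (t * x ^ k) * g⁻¹ := by group
    _ = g * x ^ k * g⁻¹ * (g * t * g⁻¹) := by rw [hc]; group

/-- the further fixed points -/
noncomputable def Q1 : Fin N := ⟨fq1, by rw [degree]; decide⟩

@[inherit_doc Q1]
noncomputable def Q2 : Fin N := ⟨fq2, by rw [degree]; decide⟩

theorem srcFacts : srcPts.length = 16 ∧ app (srcWords.getD 0 []) 0 = 0 ∧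
    app (srcWords.getD 1 []) 0 = fq1 ∧
    app (srcWords.getD 2 []) 0 = fq2 ∧ app (srcWords.getD 3 []) 0 = c0 ∧
    (∀ j < 13, app (srcWords.getD (3 + j) []) 0 = app (uPow j) c0) ∧
    (∀ w ∈ srcWords, ∀ k ∈ w, k < 10) ∧ c0 < 31671 := by
  decide +kernel

theorem src_getD_lt (a : ℕ) : ∀ k ∈ srcWords.getD a [], k < 10 := by
  intro k hk
  rw [List.getD_eq_getElem?_getD] at hk
  cases h : srcWords[a]? with
  | none => simp [h] at hk
  | some w =>
    simp [h] at hk
    exact srcFacts.2.2.2.2.2.2.1 w (List.mem_of_getElem? h) k hk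

theorem fixedPairs :
    Nat.beq (app uW fq1) fq1 = true ∧ Nat.beq (app uW fq2) fq2 = true ∧
    dNat [] fq1 = fq2 ∧ dNat (srcWords.getD 1 []) 0 = fq2 ∧ dNat (srcWords.getD 2 []) 0 = fq1 := by
  decide +kernel

theorem u_fix_i₀ : π u i₀ = i₀ := Fin.ext (by
  rw [show u = wordEl uW from rfl, π_wordEl uW_lt]
  decide +kernel)

theorem u_fix_Q1 : π u Q1 = Q1 := Fin.ext (by
  rw [show u = wordEl uW from rfl, π_wordEl uW_lt]
  exact Nat.eq_of_beq_eq_true fixedPairs.1)

theorem u_fix_Q2 : π u Q2 = Q2 := Fin.ext (by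
  rw [show u = wordEl uW from rfl, π_wordEl uW_lt]
  exact Nat.eq_of_beq_eq_true fixedPairs.2.1)

theorem u_fix_cases {q : Fin N} (h : π u q = q) : q = i₀ ∨ q = Q1 ∨ q = Q2 := by
  have e := congrArg Fin.val h
  rw [show u = wordEl uW from rfl, π_wordEl uW_lt] at e
  have h2 := allBelow_spec uFix q q.2
  have e2 : Nat.beq (app uW q) q = true := by rw [e]; exact Nat.beq_refl _
  simp only [uFixAt, e2, Bool.not_true, Bool.false_or, Bool.or_eq_true, Nat.beq_eq] at h2
  rcases h2 with (h2 | h2) | h2
  exacts [Or.inl (Fin.ext h2), Or.inr (Or.inl (Fin.ext h2)), Or.inr (Or.inr (Fin.ext h2))]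

/-- the base point of the special cycle -/
noncomputable def C0pt : Fin N := ⟨c0, by rw [degree]; exact srcFacts.2.2.2.2.2.2.2⟩

theorem π_dq_src {a : ℕ} {p : Fin N} (hp : app (srcWords.getD a []) 0 = (p : ℕ)) (i : Fin N) :
    ((π (dq p) i : Fin N) : ℕ) = dNat (srcWords.getD a []) i :=
  π_dq (src_getD_lt a) hp i

/-- a point with the pattern of the special cycle -/
def Patterned (y : Fin N) : Prop :=
  ∀ j < 6, Rel y (π (u ^ (j + 1)) y) ↔ pat.getD j false = true

theorem patterned_C0 : Patterned C0pt := by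
  intro j hj
  have h := pattern
  simp only [patOk, List.all_eq_true, List.mem_range] at h
  have h' := h j hj
  have e : ((π (dq C0pt) (π (u ^ (j + 1)) C0pt) : Fin N) : ℕ) =
      dNat (srcWords.getD 3 []) (app (uPow (j + 1)) c0) := by
    rw [π_dq_src srcFacts.2.2.2.2.1, π_uPow]
    rfl
  have e2 : ((π (u ^ (j + 1)) C0pt : Fin N) : ℕ) = app (uPow (j + 1)) c0 := π_uPow _ _
  show π (dq C0pt) (π (u ^ (j + 1)) C0pt) = π (u ^ (j + 1)) C0pt ↔ _
  rw [Fin.ext_iff, e, e2]
  cases hb : Nat.beq (dNat (srcWords.getD 3 []) (app (uPow (j + 1)) c0))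
      (app (uPow (j + 1)) c0) with
  | true =>
    rw [hb] at h'
    simp only [Nat.eq_of_beq_eq_true hb, true_iff]
    exact h'
  | false =>
    rw [hb] at h'
    have hne : ¬ (dNat (srcWords.getD 3 []) (app (uPow (j + 1)) c0) = app (uPow (j + 1)) c0) :=
      fun e => Nat.ne_of_beq_eq_false hb e
    simp only [iff_false_intro hne, false_iff]
    simpa using h'

/-- the special cycle is the only one of its region with its pattern -/
theorem unique_cycle {y : Fin N} (hy0 : y ≠ i₀) (h0 : π (dq i₀) y = y) (h1 : ¬Rel Q1 y) (h2 : ¬Rel Q2 y)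
    (hp : Patterned y) : ∃ m < 13, π (u ^ m) C0pt = y := by
  have h := allBelow_spec region y y.2
  have r0 : Nat.beq (Perm.zData.img 2 y) y = true := by
    rw [Nat.beq_eq, ← π_z, ← dq_i₀, h0]
  have r1 : Nat.beq (dNat (srcWords.getD 1 []) y) y = false := by
    refine Bool.eq_false_iff.2 fun hb => h1 (Fin.ext ?_)
    rw [π_dq_src (p := Q1) srcFacts.2.2.1]
    exact Nat.eq_of_beq_eq_true hb
  have r2 : Nat.beq (dNat (srcWords.getD 2 []) y) y = false := by
    refine Bool.eq_false_iff.2 fun hb => h2 (Fin.ext ?_)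
    rw [π_dq_src (p := Q2) srcFacts.2.2.2.1]
    exact Nat.eq_of_beq_eq_true hb
  have r3 : Nat.beq (y : ℕ) 0 = false :=
    Bool.eq_false_iff.2 fun hb => hy0 (Fin.ext (Nat.eq_of_beq_eq_true hb))
  simp only [regAt, r0, r1, r2, r3, Bool.not_false, Bool.and_self, cond_true, Bool.and_eq_true,
    Nat.blt_eq, Nat.beq_eq] at h
  set c := Nat.shiftRight (regPos.half y) 4 with hc
  set m := Nat.land (regPos.half y) 15 with hm
  obtain ⟨⟨hcl, hm13⟩, hy⟩ := h
  have hmem : cycles.getD c ([], 0) ∈ cycles := by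
    rw [List.getD_eq_getElem?_getD, List.getElem?_eq_getElem hcl]
    exact List.getElem_mem hcl
  generalize cycles.getD c ([], 0) = e at hy hmem
  have hok := List.all_eq_true.1 cyclesOk e hmem
  simp only [cycOk, Bool.and_eq_true, List.all_eq_true, Nat.blt_eq] at hok
  obtain ⟨hw, hok⟩ := hok
  let r : Fin N := ⟨app e.1 0, app_lt hw (by rw [degree]; decide)⟩
  have hyr : π (u ^ m) r = y := Fin.ext (by rw [π_uPow]; exact hy)
  cases hk : Nat.beq e.2 0 with
  | true =>
    rw [hk] at hok
    refine ⟨m, hm13, ?_⟩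
    rw [← hyr]
    congr 1
    exact Fin.ext (Nat.eq_of_beq_eq_true hok).symm
  | false =>
    rw [hk] at hok
    simp only [cond_false, Bool.and_eq_true, Nat.blt_eq] at hok
    obtain ⟨hlt, hok⟩ := hok
    have hpos : e.2 ≠ 0 := fun h0 => by simp [h0] at hk
    exfalso
    have hpy := hp (e.2 - 1) (by omega)
    rw [show e.2 - 1 + 1 = e.2 by omega] at hpy
    -- transport from the first point of the cycle
    have hrel : Rel y (π (u ^ e.2) y) ↔ Rel r (π (u ^ e.2) r) := by
      rw [← hyr, ← Equiv.Perm.mul_apply, ← map_mul, ← pow_add, Nat.add_comm e.2, pow_add,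
        map_mul, Equiv.Perm.mul_apply, rel_map]
    have hval : ((π (dq r) (π (u ^ e.2) r) : Fin N) : ℕ) =
        dNat e.1 (app (uPow e.2) (app e.1 0)) := by
      rw [π_dq hw rfl, π_uPow]
      rfl
    have hval2 : ((π (u ^ e.2) r : Fin N) : ℕ) = app (uPow e.2) (app e.1 0) := π_uPow _ _
    rw [hrel, Rel, Fin.ext_iff, hval, hval2] at hpy
    cases hb : Nat.beq (dNat e.1 (app (uPow e.2) (app e.1 0)))
        (app (uPow e.2) (app e.1 0)) with
    | true =>
      rw [hb] at hok
      have := hpy.1 (Nat.eq_of_beq_eq_true hb)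
      simp only [cond_true, Bool.not_eq_true'] at hok
      rw [hok] at this
      exact Bool.noConfusion this
    | false =>
      rw [hb] at hok
      simp only [cond_false] at hok
      have := hpy.2 hok
      rw [this] at hb
      simp at hb

theorem doubled_moves : ∀ m < 13, app (uPow (m + m)) c0 = c0 → m = 0 := by decide +kernel

/-- sources -/
noncomputable def srcPt (a : ℕ) : Fin N :=
  ⟨app (srcWords.getD a []) 0, app_lt (src_getD_lt a) (by rw [degree]; decide)⟩

theorem steps_fix {s : F} (hsrc : ∀ a < srcWords.length, π s (srcPt a) = srcPt a) :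
    ∀ (l : List (ℕ × ℕ × ℕ)) (known : List ℕ), okSteps known l = true →
      (∀ x ∈ known, ∃ p : Fin N, (p : ℕ) = x ∧ π s p = p) → ∀ g, π s (gpt g) = gpt g
  | [], known, h, hk, g => by
    simp only [okSteps, List.all_eq_true, List.contains_iff_mem] at h
    have hmem : elPt (idx g) ∈ genPts := by
      have hlt : idx g < genPts.length := by cases g <;> decide
      rw [elPt, List.getD_eq_getElem?_getD, List.getElem?_eq_getElem hlt]
      exact List.getElem_mem hlt
    obtain ⟨p, hp, hfix⟩ := hk _ (h _ hmem)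
    have : p = gpt g := Fin.ext hp
    rw [this] at hfix
    exact hfix
  | (y, a, x) :: l, known, h, hk, g => by
    simp only [okSteps, Bool.and_eq_true, Nat.blt_eq, Nat.beq_eq, List.contains_iff_mem] at h
    obtain ⟨⟨⟨ha, hx⟩, hy⟩, hl⟩ := h
    refine steps_fix hsrc l (y :: known) hl (fun v hv => ?_) g
    rcases List.mem_cons.1 hv with rfl | hv
    · obtain ⟨p, hp, hfix⟩ := hk x hx
      refine ⟨π (dq (srcPt a)) p, by rw [π_dq_src rfl, hp, hy], ?_⟩
      rw [← Equiv.Perm.mul_apply, ← map_mul, (comm_dq_iff s (srcPt a)).2 (hsrc a ha), map_mul,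
        Equiv.Perm.mul_apply, hfix]
    · exact hk v hv

/-- an involution commuting with `u` and fixing its three fixed points is trivial -/
theorem eq_one_of_fix {s : F} (hs : s * s = 1) (hu : s * u = u * s) (h0 : π s i₀ = i₀)
    (h1 : π s Q1 = Q1) (h2 : π s Q2 = Q2) : s = 1 := by
  have hcu : ∀ m : ℕ, ∀ p, π s (π (u ^ m) p) = π (u ^ m) (π s p) := by
    intro m p
    rw [← Equiv.Perm.mul_apply, ← map_mul, (Commute.pow_right (show Commute s u from hu) m).eq,
      map_mul, Equiv.Perm.mul_apply]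
  have hreg : π (dq i₀) C0pt = C0pt ∧ ¬Rel Q1 C0pt ∧ ¬Rel Q2 C0pt := by
    refine ⟨?_, fun h => ?_, fun h => ?_⟩
    · refine Fin.ext ?_
      rw [dq_i₀, π_z]
      decide +kernel
    · have e := congrArg Fin.val h
      rw [π_dq_src (p := Q1) srcFacts.2.2.1] at e
      revert e
      show dNat (srcWords.getD 1 []) c0 = c0 → False
      decide +kernel
    · have e := congrArg Fin.val h
      rw [π_dq_src (p := Q2) srcFacts.2.2.2.1] at e
      revert e
      show dNat (srcWords.getD 2 []) c0 = c0 → False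
      decide +kernel
  obtain ⟨m, hm, hmy⟩ := unique_cycle (y := π s C0pt)
    (fun e => by
      have : c0 = 0 := congrArg Fin.val ((π s).injective (e.trans h0.symm))
      exact absurd this (by decide))
    (by
      have h : Rel i₀ C0pt := hreg.1
      have := (rel_map s i₀ C0pt).2 h
      rwa [h0] at this)
    (by
      have := (rel_map s Q1 C0pt).not.2 hreg.2.1
      rwa [h1] at this)
    (by
      have := (rel_map s Q2 C0pt).not.2 hreg.2.2
      rwa [h2] at this)
    (fun j hj => by
      rw [← hcu, rel_map]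
      exact patterned_C0 j hj)
  have hm0 : m = 0 := by
    refine doubled_moves m hm ?_
    have : π (u ^ (m + m)) C0pt = C0pt := by
      rw [pow_add, map_mul, Equiv.Perm.mul_apply, hmy, ← hcu, hmy, ← Equiv.Perm.mul_apply,
        ← map_mul, hs, map_one, Equiv.Perm.one_apply]
    have e := congrArg Fin.val this
    rw [π_uPow] at e
    exact e
  subst hm0
  have hc : π s C0pt = C0pt := by simpa using hmy.symm
  have hsrc : ∀ a < srcWords.length, π s (srcPt a) = srcPt a := by
    intro a ha
    obtain ⟨hlen, e0, e1, e2, -, ej, -, -⟩ := srcFacts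
    rw [srcPts, List.length_map] at hlen
    rcases (show a = 0 ∨ a = 1 ∨ a = 2 ∨ ∃ j < 13, a = 3 + j by
      rcases lt_or_ge a 3 with h | h
      · omega
      · exact Or.inr (Or.inr (Or.inr ⟨a - 3, by omega, by omega⟩))) with
      rfl | rfl | rfl | ⟨j, hj, rfl⟩
    · rw [show srcPt 0 = i₀ from Fin.ext e0, h0]
    · rw [show srcPt 1 = Q1 from Fin.ext e1, h1]
    · rw [show srcPt 2 = Q2 from Fin.ext e2, h2]
    · rw [show srcPt (3 + j) = π (u ^ j) C0pt from
        Fin.ext ((ej j hj).trans (π_uPow j C0pt).symm), hcu, hc]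
  refine eq_one_of_comm (steps_fix hsrc steps srcPts stepsOk fun x hx => ?_)
  obtain ⟨w, hw, rfl⟩ := List.mem_map.1 hx
  obtain ⟨a, ha, rfl⟩ := List.getElem_of_mem hw
  refine ⟨srcPt a, ?_, hsrc a ha⟩
  show app (srcWords.getD a []) 0 = _
  rw [List.getD_eq_getElem?_getD, List.getElem?_eq_getElem ha]
  rfl

theorem eq_z_of_fix {t : F} (ht : t * t = 1) (ht1 : t ≠ 1) (hu : t * u = u * t)
    (h0 : π t i₀ = i₀) : t = z := by
  have hz1 : π z Q1 = Q2 := Fin.ext (by rw [π_z]; exact fixedPairs.2.2.1)
  have hz2 : π z Q2 = Q1 := by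
    rw [← hz1, ← Equiv.Perm.mul_apply, ← map_mul, z_sq, map_one, Equiv.Perm.one_apply]
  have hperm : ∀ q, π u q = q → π u (π t q) = π t q := fun q hq => by
    rw [← Equiv.Perm.mul_apply, ← map_mul, ← hu, map_mul, Equiv.Perm.mul_apply, hq]
  rcases u_fix_cases (hperm Q1 u_fix_Q1) with h | h | h
  · exact absurd ((π t).injective (h.trans h0.symm)) (by
      intro e
      have : fq1 = 0 := congrArg Fin.val e
      exact absurd this (by decide))
  · exfalso
    refine ht1 (eq_one_of_fix ht hu h0 h ?_)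
    rcases u_fix_cases (hperm Q2 u_fix_Q2) with h' | h' | h'
    · exact absurd ((π t).injective (h'.trans h0.symm)) (by
        intro e
        have : fq2 = 0 := congrArg Fin.val e
        exact absurd this (by decide))
    · exact absurd ((π t).injective (h'.trans h.symm)) (by
        intro e
        have : fq2 = fq1 := congrArg Fin.val e
        exact absurd this (by decide))
    · exact h'
  · have h' : π t Q2 = Q1 := by
      rw [← h, ← Equiv.Perm.mul_apply, ← map_mul, ht, map_one, Equiv.Perm.one_apply]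
    have htz : t * z = z * t := z_comm_mem (mem_H_of_fix h0)
    have huz : u * z = z * u := z_comm_mem (mem_H_of_fix u_fix_i₀)
    have hs := eq_one_of_fix (s := t * z)
      (by rw [mul_assoc, ← mul_assoc z, ← htz, mul_assoc, z_sq, mul_one, ht])
      (by rw [mul_assoc, ← huz, ← mul_assoc, hu, mul_assoc])
      (by rw [map_mul, Equiv.Perm.mul_apply, H_fix z z_mem, h0])
      (by rw [map_mul, Equiv.Perm.mul_apply, hz1, h'])
      (by rw [map_mul, Equiv.Perm.mul_apply, hz2, h])
    rw [mul_eq_one_iff_eq_inv, inv_eq_of_mul_eq_one_left z_sq] at hs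
    exact hs

/-- every automorphism sends `z` to a conjugate of `z` -/
theorem exists_conj_z (φ : MulAut F) : ∃ g : F, g * φ z * g⁻¹ = z := by
  have huz : u * z = z * u := z_comm_mem (mem_H_of_fix u_fix_i₀)
  obtain ⟨g, hg⟩ := exists_conj_comm (t := φ z) (x := φ u)
    (by rw [MulEquiv.orderOf_eq, orderOf_u]) (by rw [← map_mul, ← map_mul, huz])
  set t := g * φ z * g⁻¹ with htd
  have ht : t * t = 1 := by
    rw [htd]
    calc g * φ z * g⁻¹ * (g * φ z * g⁻¹) = g * (φ z * φ z) * g⁻¹ := by group
      _ = 1 := by rw [← map_mul, z_sq, map_one]; group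
  have ht1 : t ≠ 1 := fun h => by
    rw [htd, conj_eq_one_iff, EmbeddingLike.map_eq_one_iff] at h
    exact z_ne_one h
  have hperm : ∀ q, π u q = q → π u (π t q) = π t q := fun q hq => by
    rw [← Equiv.Perm.mul_apply, ← map_mul, ← hg, map_mul, Equiv.Perm.mul_apply, hq]
  -- conjugating by a transposition commuting with `u`
  have key : ∀ e : F, e * e = 1 → e * u = u * e → π t (π e i₀) = π e i₀ →
      ∃ g' : F, g' * φ z * g'⁻¹ = z := by
    intro e he heu hfix
    have hei : e⁻¹ = e := inv_eq_of_mul_eq_one_left he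
    refine ⟨e * g, ?_⟩
    have h := eq_z_of_fix (t := e * t * e⁻¹) ?_ ?_ ?_ ?_
    · refine Eq.trans ?_ h
      rw [htd]; group
    · calc e * t * e⁻¹ * (e * t * e⁻¹) = e * (t * t) * e⁻¹ := by group
        _ = 1 := by rw [ht]; group
    · rwa [Ne, conj_eq_one_iff]
    · rw [hei]
      calc e * t * e * u = e * t * (e * u) := by group
        _ = e * (t * u) * e := by rw [heu]; group
        _ = (e * u) * t * e := by rw [hg]; group
        _ = u * (e * t * e) := by rw [heu]; group
    · rw [hei, map_mul, map_mul, Equiv.Perm.mul_apply, Equiv.Perm.mul_apply, hfix,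
        ← Equiv.Perm.mul_apply, ← map_mul, he, map_one, Equiv.Perm.one_apply]
  rcases u_fix_cases (hperm i₀ u_fix_i₀) with h | h | h
  · exact ⟨g, eq_z_of_fix ht ht1 hg h⟩
  · -- the remaining point is fixed
    have hQ : π t Q2 = Q2 := by
      have hback : π t Q1 = i₀ := by
        rw [← h, ← Equiv.Perm.mul_apply, ← map_mul, ht, map_one, Equiv.Perm.one_apply]
      rcases u_fix_cases (hperm Q2 u_fix_Q2) with h' | h' | h'
      · exact absurd (congrArg Fin.val ((π t).injective (h'.trans hback.symm))) (by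
          show fq2 ≠ fq1; decide)
      · exact absurd (congrArg Fin.val ((π t).injective (h'.trans h.symm))) (by
          show fq2 ≠ 0; decide)
      · exact h'
    have e1 : π (dq Q1) i₀ = Q2 := Fin.ext (by
      rw [π_dq_src (p := Q1) srcFacts.2.2.1]
      exact fixedPairs.2.2.2.1)
    refine key (dq Q1) (dq_sq _) ((comm_dq_iff u Q1).2 u_fix_Q1).symm ?_
    rw [e1, hQ]
  · have hQ : π t Q1 = Q1 := by
      have hback : π t Q2 = i₀ := by
        rw [← h, ← Equiv.Perm.mul_apply, ← map_mul, ht, map_one, Equiv.Perm.one_apply]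
      rcases u_fix_cases (hperm Q1 u_fix_Q1) with h' | h' | h'
      · exact absurd (congrArg Fin.val ((π t).injective (h'.trans hback.symm))) (by
          show fq1 ≠ fq2; decide)
      · exact h'
      · exact absurd (congrArg Fin.val ((π t).injective (h'.trans h.symm))) (by
          show fq1 ≠ 0; decide)
    have e1 : π (dq Q2) i₀ = Q1 := Fin.ext (by
      rw [π_dq_src (p := Q2) srcFacts.2.2.2.1]
      exact fixedPairs.2.2.2.2)
    refine key (dq Q2) (dq_sq _) ((comm_dq_iff u Q2).2 u_fix_Q2).symm ?_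
    rw [e1, hQ]

end CfsgLib.Spor.Fi23.Auto
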