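import Cfsg.Agent.Lib.Spor.Fi23.Cover
import Cfsg.Agent.Lib.PresCert.WidePower

/-!
The transposition attached to a point of the presented group Fi23.
-/

namespace CfsgLib.Spor.Fi23.Auto

open CfsgLib.PresCert Cfsg.Spor

local notation "N" => Perm.data.n
local notation "app" => Wide.PermData.app Perm.data
local notation "F" => Cfsg.Spor.Fi23

/-- the generator with a given number -/
def ofIdx : ℕ → Fi23.Gen
  | 0 => .a | 1 => .b | 2 => .c | 3 => .d | 4 => .e | 5 => .f | 6 => .g | 7 => .j | 8 => .h
  | _ => .i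

theorem idx_ofIdx : ∀ k < 10, idx (ofIdx k) = k := by decide

theorem ofIdx_idx (x : Fi23.Gen) : ofIdx (idx x) = x := by cases x <;> rfl

/-- a word, first letter acts first -/
noncomputable def wordEl (w : List ℕ) : F := ((w.reverse.map ofIdx).map gen).prod

theorem π_wordEl {w : List ℕ} (hw : ∀ k ∈ w, k < 10) (i : Fin N) :
    ((π (wordEl w) i : Fin N) : ℕ) = app w i := by
  rw [wordEl, π_word]
  have : (w.reverse.map ofIdx).map idx = w.reverse := by
    rw [List.map_map]
    refine (List.map_congr_left fun k hk => ?_).trans (List.map_id _)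
    exact idx_ofIdx k (hw k (List.mem_reverse.1 hk))
  rw [this, List.reverse_reverse]

theorem wordEl_inv (w : List ℕ) : (wordEl w)⁻¹ = wordEl w.reverse := by
  have key : ∀ l : List Fi23.Gen, ((l.map gen).prod)⁻¹ = ((l.reverse.map gen).prod : F) := by
    intro l
    rw [List.prod_inv_reverse, List.map_map, List.map_reverse]
    refine congrArg List.prod (congrArg List.reverse (List.map_congr_left fun x _ => ?_))
    exact inv_eq_of_mul_eq_one_left (gen_sq x)
  rw [wordEl, wordEl, key]
  simp [List.map_reverse]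

theorem mem_H_of_fix {g : F} (hg : π g i₀ = i₀) : g ∈ H := by
  haveI := finite
  obtain ⟨φ, hφ⟩ := coset_bijection π H i₀ H_fix (index_H.trans degree.symm) transitive
  have : φ (g : F ⧸ H) = φ ((1 : F) : F ⧸ H) := by
    rw [hφ, hφ, map_one, Equiv.Perm.one_apply, hg]
  simpa using QuotientGroup.eq.1 (φ.injective this).symm

theorem z_comm_mem {h : F} (hh : h ∈ H) : h * z = z * h := by
  have e := congrArg Subtype.val (Subgroup.mem_center_iff.1 zH_central ⟨h, hh⟩)
  simpa [zH] using e

theorem fix_of_z_comm {g : F} (hg : g * z = z * g) : π g i₀ = i₀ := by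
  by_contra hne
  haveI := finite
  haveI : IsSimpleGroup F := isFi23.1
  let C := Subgroup.centralizer ({z} : Set F)
  have hHC : H ≤ C := fun h hh => Subgroup.mem_centralizer_singleton_iff.2 (z_comm_mem hh)
  have hgC : g ∈ C := Subgroup.mem_centralizer_singleton_iff.2 hg
  have hgH : g ∉ H := fun h => hne (H_fix g h)
  obtain ⟨φ, hφ⟩ := coset_bijection π H i₀ H_fix (index_H.trans degree.symm) transitive
  let S : Set (Fin N) := {i | ∃ k ∈ C, π k i₀ = i}
  have hS : S = {i₀} ∨ S = Set.univ := by
    refine invariant_sets S ⟨1, one_mem _, by simp⟩ ?_ ?_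
    · rintro h hh _ ⟨k, hk, rfl⟩
      exact ⟨h * k, C.mul_mem (hHC hh) hk, by rw [map_mul, Equiv.Perm.mul_apply]⟩
    · have e : S.ncard = H.relIndex C := by
        rw [Subgroup.relIndex, Subgroup.index_eq_card]
        symm
        refine Nat.card_congr ?_ |>.trans (Nat.card_coe_set_eq S)
        refine Equiv.ofBijective
          (Quotient.lift (fun k : C => (⟨π k i₀, k, k.2, rfl⟩ : S)) ?_) ⟨?_, ?_⟩
        · intro a b hab
          have hab' : (QuotientGroup.leftRel (H.subgroupOf C)) a b := hab
          rw [QuotientGroup.leftRel_apply, Subgroup.mem_subgroupOf] at hab'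
          refine Subtype.ext ?_
          show π a i₀ = π b i₀
          rw [← hφ, ← hφ]
          exact congrArg φ (QuotientGroup.eq.2 (by simpa using hab'))
        · intro a b h
          induction a using QuotientGroup.induction_on with
          | H a => ?_
          induction b using QuotientGroup.induction_on with
          | H b => ?_
          refine QuotientGroup.eq.2 ?_
          rw [Subgroup.mem_subgroupOf]
          have h' : π (a : F) i₀ = π (b : F) i₀ := congrArg Subtype.val h
          rw [← hφ, ← hφ] at h'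
          simpa using QuotientGroup.eq.1 (φ.injective h')
        · rintro ⟨_, k, hk, rfl⟩
          exact ⟨((⟨k, hk⟩ : C) : C ⧸ H.subgroupOf C), rfl⟩
      rw [e, show N = H.index from (index_H.trans degree.symm).symm]
      exact Subgroup.relIndex_dvd_index_of_le hHC
  rcases hS with hS | hS
  · exact hne (show π g i₀ ∈ ({i₀} : Set _) from hS ▸ ⟨g, hgC, rfl⟩)
  · have hCtop : C = ⊤ := by
      rw [eq_top_iff]
      intro y _
      obtain ⟨k, hk, e⟩ : π y i₀ ∈ S := hS ▸ Set.mem_univ _
      rw [← hφ, ← hφ] at e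
      have := QuotientGroup.eq.1 (φ.injective e)
      simpa using C.mul_mem hk (hHC this)
    have hz : z ∈ Subgroup.center F := by
      rw [Subgroup.mem_center_iff]
      intro y
      exact Subgroup.mem_centralizer_singleton_iff.1 (hCtop ▸ Subgroup.mem_top y : y ∈ C)
    -- a central element of a transitive faithful group fixing a point is trivial
    have hz0 : π z i₀ = i₀ := H_fix z z_mem
    refine z_ne_one (π_injective ?_)
    rw [map_one]
    refine Equiv.ext fun i => ?_
    obtain ⟨y, rfl⟩ := transitive i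
    rw [Equiv.Perm.one_apply, ← Equiv.Perm.mul_apply, ← map_mul,
      ← Subgroup.mem_center_iff.1 hz y, map_mul, Equiv.Perm.mul_apply, hz0]

/-- the transposition of a point -/
noncomputable def dq (q : Fin N) : F :=
  (transitive q).choose * z * ((transitive q).choose)⁻¹

theorem dq_of_eq {g : F} {q : Fin N} (hg : π g i₀ = q) : dq q = g * z * g⁻¹ := by
  have hc := (transitive q).choose_spec
  set c := (transitive q).choose with hcd
  have hm : g⁻¹ * c ∈ H := by
    refine mem_H_of_fix ?_
    rw [map_mul, Equiv.Perm.mul_apply, hc, map_inv, Equiv.Perm.inv_eq_iff_eq, hg]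
  have e := z_comm_mem hm
  rw [dq, ← hcd]
  calc c * z * c⁻¹ = g * ((g⁻¹ * c) * z) * c⁻¹ := by group
    _ = g * (z * (g⁻¹ * c)) * c⁻¹ := by rw [e]
    _ = g * z * g⁻¹ := by group

theorem dq_i₀ : dq i₀ = z := by rw [dq_of_eq (g := 1) (by simp)]; group

theorem conj_dq (g : F) (p : Fin N) : g * dq p * g⁻¹ = dq (π g p) := by
  obtain ⟨c, rfl⟩ := transitive p
  rw [dq_of_eq (g := c) rfl,
    dq_of_eq (g := g * c) (by rw [map_mul, Equiv.Perm.mul_apply])]
  group

theorem dq_injective : Function.Injective dq := by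
  intro p q h
  obtain ⟨a, rfl⟩ := transitive p
  obtain ⟨b, rfl⟩ := transitive q
  rw [dq_of_eq (g := a) rfl, dq_of_eq (g := b) rfl] at h
  have hfix : π (b⁻¹ * a) i₀ = i₀ := by
    refine fix_of_z_comm ?_
    calc b⁻¹ * a * z = b⁻¹ * (a * z * a⁻¹) * a := by group
      _ = b⁻¹ * (b * z * b⁻¹) * a := by rw [h]
      _ = z * (b⁻¹ * a) := by group
  calc π a i₀ = π b (π (b⁻¹ * a) i₀) := by
        rw [← Equiv.Perm.mul_apply, ← map_mul, mul_inv_cancel_left]
    _ = π b i₀ := by rw [hfix]

theorem comm_dq_iff (g : F) (p : Fin N) : g * dq p = dq p * g ↔ π g p = p := by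
  rw [← mul_inv_eq_iff_eq_mul, conj_dq]
  exact dq_injective.eq_iff

theorem dq_sq (p : Fin N) : dq p * dq p = 1 := by
  obtain ⟨c, rfl⟩ := transitive p
  rw [dq_of_eq (g := c) rfl]
  calc c * z * c⁻¹ * (c * z * c⁻¹) = c * (z * z) * c⁻¹ := by group
    _ = 1 := by rw [z_sq]; group

/-- two points are related if their transpositions commute -/
def Rel (p q : Fin N) : Prop := π (dq p) q = q

theorem rel_iff (p q : Fin N) : Rel p q ↔ dq p * dq q = dq q * dq p := (comm_dq_iff _ _).symm

theorem rel_symm {p q : Fin N} : Rel p q ↔ Rel q p := by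
  rw [rel_iff, rel_iff]
  exact eq_comm

theorem rel_map (g : F) (p q : Fin N) : Rel (π g p) (π g q) ↔ Rel p q := by
  rw [rel_iff, rel_iff, ← conj_dq, ← conj_dq]
  constructor <;> intro h
  · refine mul_left_cancel (a := g) (mul_right_cancel (b := g⁻¹) ?_)
    simpa [mul_assoc] using h
  · simpa [mul_assoc] using congrArg (fun x => g * x * g⁻¹) h

/-- image of a point under the transposition of the point reached by the word from zero -/
noncomputable def dImg (w : List ℕ) (i : ℕ) : ℕ :=
  app w (Perm.zData.img (nat_lit 2) (app w.reverse i))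

theorem π_dq {w : List ℕ} (hw : ∀ k ∈ w, k < 10) {p : Fin N} (hp : app w 0 = p) (i : Fin N) :
    ((π (dq p) i : Fin N) : ℕ) = dImg w i := by
  have hq : π (wordEl w) i₀ = p := Fin.ext (by rw [π_wordEl hw]; exact hp)
  rw [dq_of_eq hq, wordEl_inv, map_mul, map_mul, Equiv.Perm.mul_apply, Equiv.Perm.mul_apply,
    π_wordEl hw, π_z, π_wordEl fun k hk => hw k (List.mem_reverse.1 hk)]
  rfl

theorem braid {x y : Fi23.Gen} (h : coxLabel Fi23.edges x y = 3) :
    gen x * gen y * gen x * (gen x * gen y)⁻¹ = gen y := by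
  have h3 := pgen_cox (extra := Fi23.extra) (mem_nodes x) (mem_nodes y)
  rw [h] at h3
  have hx : (gen x)⁻¹ = gen x := inv_eq_of_mul_eq_one_left (gen_sq x)
  have hy : (gen y)⁻¹ = gen y := inv_eq_of_mul_eq_one_left (gen_sq y)
  have e : gen x * gen y * gen x * gen y * gen x * gen y = 1 := by
    simpa [pow_succ, mul_assoc] using h3
  rw [mul_inv_rev, hx, hy]
  calc gen x * gen y * gen x * (gen y * gen x)
      = (gen x * gen y * gen x * gen y * gen x * gen y) * (gen y)⁻¹ := by group
    _ = gen y := by rw [e, one_mul, hy]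

end CfsgLib.Spor.Fi23.Auto
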